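import Cfsg.Agent.Lib.U43.Mod
import Cfsg.Agent.Lib.Comp.U43k.Main

/-! Facts on the central product `SL₂(3) ∘ SL₂(3)`. -/

set_option autoImplicit false
set_option maxRecDepth 100000

namespace Cfsg.Lib.U43

open Cfsg.Lib.FO Subgroup Cfsg.Lib.Golay Cfsg.Lib.Psp43
open Cfsg.Lib.Comp (Rels ev_single)

universe v

variable {G : Type v} [Group G]

def gsK : List ℕ := [nat_lit 0x2f2e2d2c2b2a292827262524232221201f1e1d1c1b1a191817161514131211100f0e0d0c0b0a09080706050403020100,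
  nat_lit 0x2c2d2e2f28292a2b24252627202122231c1d1e1f18191a1b14151617101112130c0d0e0f08090a0b0405060700010203,
  nat_lit 0x202122232425262728292a2b2c2d2e2f101112131415161718191a1b1c1d1e1f0c0d0e0f08090a0b0706050403020100,
  nat_lit 0x18191a1b1c1d1e1f101112131415161728292a2b2c2d2e2f20212223242526270c0d0e0f0b0a09080405060703020100,
  nat_lit 0x2021222328292a2b242526272c2d2e2f1f1e1d1c171615141b1a1918131211100b0a09080f0e0d0c0302010007060504,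
  nat_lit 0x141516172b2a2928242526271b1a19181c1d1e1f232221202c2d2e2f1312111003020100070605040b0a09080f0e0d0c,
  nat_lit 0x20212223242526271f1e1d1c1b1a191828292a2b2c2d2e2f17161514131211100b0a0908070605040f0e0d0c03020100,
  nat_lit 0x18191a1b1c1d1e1f28292a2b2c2d2e2f27262524232221201716151413121110070605040f0e0d0c0b0a090803020100,
  nat_lit 0xc0d0e0f2f2e2d2c232221200b0a09081b1a191807060504000102031415161728292a2b272625241f1e1d1c13121110,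
  nat_lit 0x2b2a29280c0d0e0f0b0a090827262524070605041f1e1d1c10111213030201002c2d2e2f232221201b1a191814151617]

/-- letters `z u e f s y Y p P` -/
abbrev gK (z u e f s y p : G) : ℕ → G := nt 1 [1, z, u, e, f, s, y, y⁻¹, p, p⁻¹]

theorem chkK : chk 48 509 9 6 gsK [Comp.U43k.L.map .c, [.c 2, .c 3, .c 4, .c 5], [.c 2, .c 3, .c 4, .c 5]]
    (.and (.card 0 288) (.all 0 (ncl (wd [1])))) = true := by decide +kernel

theorem embK {z u e f s y p : G} (h : Rels (gK z u e f s y p) Comp.U43k.R) (z1 : z ≠ 1) :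
    ∃ φ : c48.gen gsK →* G, Function.Injective φ ∧ ∀ i, R c48 φ (getL gsK (idN 48) i) (gK z u e f s y p i) := by
  refine emb_inj (c := c48) (gs := gsK) (by decide +kernel : ∀ g ∈ gsK, isPerm 48 g = true) Comp.U43k.ord (by decide +kernel)
    (fun k hk => by simp [Comp.U43k.L] at hk ⊢; omega) [1] chkK (ivok (l := [z, u, e, f, s, y, y⁻¹, p, p⁻¹])
      (by decide +kernel : ∀ x < 64, Comp.U43k.iv x < 64 ∧ (9 < x → 9 < Comp.U43k.iv x)) fun k hk => ?_) h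
    (fun k hk => ?_) ((ev_single _ 1).trans_ne z1)
  · simp only [List.length_cons, List.length_nil] at hk
    have q := fun k => sq_of h (k := k)
    interval_cases k
    exacts [inv_one.symm, q 1 (by decide +kernel), q 2 (by decide +kernel), q 3 (by decide +kernel), q 4 (by decide +kernel),
      q 5 (by decide +kernel), rfl, (inv_inv _).symm, rfl, (inv_inv _).symm]
  · by_cases h0 : k = 0
    · rw [h0]; rfl
    · exact nt_ge _ _ _ (by simp [Comp.U43k.L] at hk ⊢; omega)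

def Sw (z u a b : G) : Prop := (a = 1 ∧ b = 1) ∨ (a = z ∧ b = u) ∨ (a = u ∧ b = z) ∨ (a = u * z ∧ b = u * z)

def Ty (z u a b : G) : Prop := (a = 1 ∧ (b = u * z ∨ b = u)) ∨ (a = u ∧ (b = 1 ∨ b = u * z)) ∨ (a = u * z ∧ (b = 1 ∨ b = u))

structure FK (z u e f s y p : G) : Prop where
  u1 : u ≠ 1
  uz : u ≠ z
  z2 : z * z = 1
  u2 : u * u = 1
  e2 : e * e = 1
  f2 : f * f = 1
  s2 : s * s = 1
  y3 : y * y * y = 1
  p3 : p * p * p = 1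
  zu : z * u = u * z
  ue : u * e = e * u
  uf : u * f = f * u
  fs : f * s = s * f
  ef : e * f * e⁻¹ * f⁻¹ = z
  fe : f * e * f⁻¹ = z * e
  es : e * s * (e * s) = z
  sus : s * u * s⁻¹ = u * z
  eV : e ∉ gen [z, u]
  fV : f ∉ gen [z, u]
  yu : y * u * y⁻¹ = e * u
  ye : y * e * y⁻¹ = u
  yf : y * f * y⁻¹ = s
  ys : y * s * y⁻¹ = s * f
  ps : p * s * p⁻¹ = e * s * u
  pu : p * u * p⁻¹ = f
  pe : p * e * p⁻¹ = s * f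
  pf : p * f * p⁻¹ = f * u * z
  k1 : u * z * f * (f * (u * (z * 1))) = 1
  k2 : z * u * e * s * (s * (e * (u * (z * 1)))) = 1
  k3 : f * s * (s * (f * 1)) = 1
  k4 : e * (u * e) * (u * 1) = 1
  k5 : z * (u * z * e) = u * e
  k6 : u * z * f * u * f = z
  cK : Nat.card (gen [z, u, e, f, s, y, p]) = 288
  cV : Nat.card (gen [z, u]) = 4
  cQ : Nat.card (gen [z, u, e, f, s]) = 32
  hK : ∀ k ∈ gen [z, u, e, f, s, y, p], k * z = z * k ∧ ((k * k * (k * k)) * (k * k * (k * k)) * (k * k * (k * k)) = 1 ∧ ((k * k * (k * k)) = 1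
    → k ∈ gen [z, u, e, f, s])) ∧ (k * k * k = 1 → (k * u * k⁻¹ = e * u → k * e * k⁻¹ = u → k * (u * z * f) * k⁻¹ = z * u * e * s → k * (z *
    u * e * s) * k⁻¹ = z * u * e * s * (u * z * f) → k = y) ∧ (k * u * k⁻¹ = u * z * f → k * e * k⁻¹ = z * u * e * s * (u * z * f) → k * (u *
    z * f) * k⁻¹ = u * z * f * u * z → k * (z * u * e * s) * k⁻¹ = e * (z * u * e * s) * u → k = p⁻¹) ∧ (k * u * k⁻¹ = u * e * u → k * (u *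
    e) * k⁻¹ = u → k * f * k⁻¹ = f * s → k * (f * s) * k⁻¹ = f * s * f → k = y⁻¹) ∧ (k * u * k⁻¹ = f → k * (u * e) * k⁻¹ = f * s * f → k * f
    * k⁻¹ = f * u * z → k * (f * s) * k⁻¹ = u * e * (f * s) * u → k = p))
  hQ : ∀ q ∈ gen [z, u, e, f, s], y * q * y⁻¹ ∈ gen [z, u, e, f, s] ∧ p * q * p⁻¹ ∈ gen [z, u, e, f, s] ∧ (q * q = 1 → (q = 1 ∨ q = z ∨ ∃ k ∈
    gen [z, u, e, f, s, y, p], k * u * k⁻¹ = q) ∧ (q * u = u * q → q ∈ gen [z, u] ∨ ∃ v ∈ gen [z, u], q = e * v ∨ q = f * v))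
  hV : ∀ v ∈ gen [z, u], v⁻¹ = v ∧ v ∈ gen [z, u, e, f, s] ∧ v * e = e * v ∧ v * f = f * v ∧ v * u = u * v ∧ ∃ x ∈ gen [z, u], Sw z u v x
  ft : ∀ a ∈ gen [z, u], ∀ b ∈ gen [z, u], ∀ r ∈ gen [z, u, e, f, s], r * r = 1 → r * u * r⁻¹ = u * z → a * e * r * (a * e * r) = z → b * f * r
    = r * (b * f) → (∀ v ∈ gen [z, u], (r = s * v → r * v = s) ∧ (r = s * v * e → r * v * (a * e) = s) ∧ (r = s * v * f → r * v * (b * f) =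
    s) ∧ (r = s * v * e * f → r * v * (a * e) * (b * f) = s)) → (∃ c ∈ gen [z, u, e, f, s], c * u * c⁻¹ = u ∧ c * e * c⁻¹ = a * e ∧ c * f *
    c⁻¹ = b * f ∧ c * s * c⁻¹ = r) ∨ Ty z u a b ∧ (a = 1 → b = u * z → ∃ c ∈ gen [z, u], c * r * c⁻¹ = z * u * e * s) ∧ (a = u → b = 1 → ∃ c
    ∈ gen [z, u], c * r * c⁻¹ = f * s)
  fc : ∀ a ∈ gen [z, u], ∀ b ∈ gen [z, u], Ty z u a b → ∀ c ∈ gen [z, u], ∀ d ∈ gen [z, u], Ty z u c d → Sw z u a a ∧ Sw z u b c ∨ Sw z u a b →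
    Sw z u d d ∨ Sw z u d c → a = 1 ∧ b = u * z ∧ c = u * z ∧ d = 1 ∨ a = u * z ∧ b = 1 ∧ c = 1 ∧ d = u * z

theorem FK_chk0 : chk 48 509 9 6 gsK [[(.c 1), (.c 2), (.c 3), (.c 4), (.c 5), (.c 6), (.c 8)], [(.c 1), (.c 2), (.c 3), (.c 4), (.c 5)],
    [(.c 1), (.c 2)]] (.and (.imp (.eq (.c 2) .one) .ff) (.and (.imp (.eq (.c 2) (.c 1)) .ff) (.and (.eq (.mul (.c 1) (.c 1)) .one) (.and
    (.eq (.mul (.c 2) (.c 2)) .one) (.and (.eq (.mul (.c 3) (.c 3)) .one) (.and (.eq (.mul (.c 4) (.c 4)) .one) (.and (.eq (.mul (.c 5) (.c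
    5)) .one) (.and (.eq (.mul (.mul (.c 6) (.c 6)) (.c 6)) .one) (.and (.eq (.mul (.mul (.c 8) (.c 8)) (.c 8)) .one) (.and (.eq (.mul (.c 1)
    (.c 2)) (.mul (.c 2) (.c 1))) (.and (.eq (.mul (.c 2) (.c 3)) (.mul (.c 3) (.c 2))) (.and (.eq (.mul (.c 2) (.c 4)) (.mul (.c 4) (.c 2)))
    (.and (.eq (.mul (.c 4) (.c 5)) (.mul (.c 5) (.c 4))) (.and (.eq (.mul (.mul (.mul (.c 3) (.c 4)) (.inv (.c 3))) (.inv (.c 4))) (.c 1))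
    (.and (.eq (.mul (.mul (.c 4) (.c 3)) (.inv (.c 4))) (.mul (.c 1) (.c 3))) (.and (.eq (.mul (.mul (.c 3) (.c 5)) (.mul (.c 3) (.c 5)))
    (.c 1)) (.and (.eq (.mul (.mul (.c 5) (.c 2)) (.inv (.c 5))) (.mul (.c 2) (.c 1))) (.and (.imp (.mem (.c 3) 2) .ff) (.and (.imp (.mem (.c
    4) 2) .ff) (.and (.eq (.mul (.mul (.c 6) (.c 2)) (.c 7)) (.mul (.c 3) (.c 2))) (.and (.eq (.mul (.mul (.c 6) (.c 3)) (.c 7)) (.c 2))
    (.and (.eq (.mul (.mul (.c 6) (.c 4)) (.c 7)) (.c 5)) (.and (.eq (.mul (.mul (.c 6) (.c 5)) (.c 7)) (.mul (.c 5) (.c 4))) (.and (.eq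
    (.mul (.mul (.c 8) (.c 5)) (.c 9)) (.mul (.mul (.c 3) (.c 5)) (.c 2))) (.and (.eq (.mul (.mul (.c 8) (.c 2)) (.c 9)) (.c 4)) (.and (.eq
    (.mul (.mul (.c 8) (.c 3)) (.c 9)) (.mul (.c 5) (.c 4))) (.and (.eq (.mul (.mul (.c 8) (.c 4)) (.c 9)) (.mul (.mul (.c 4) (.c 2)) (.c
    1))) (.and (.eq (.mul (.mul (.mul (.c 2) (.c 1)) (.c 4)) (.mul (.c 4) (.mul (.c 2) (.mul (.c 1) .one)))) .one) (.and (.eq (.mul (.mul
    (.mul (.mul (.c 1) (.c 2)) (.c 3)) (.c 5)) (.mul (.c 5) (.mul (.c 3) (.mul (.c 2) (.mul (.c 1) .one))))) .one) (.and (.eq (.mul (.mul (.c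
    4) (.c 5)) (.mul (.c 5) (.mul (.c 4) .one))) .one) (.and (.eq (.mul (.mul (.c 3) (.mul (.c 2) (.c 3))) (.mul (.c 2) .one)) .one) (.and
    (.eq (.mul (.c 1) (.mul (.mul (.c 2) (.c 1)) (.c 3))) (.mul (.c 2) (.c 3))) (.and (.eq (.mul (.mul (.mul (.mul (.c 2) (.c 1)) (.c 4)) (.c
    2)) (.c 4)) (.c 1)) (.and (.card 0 288) (.and (.card 2 4) (.and (.card 1 32) (.and (.all 0 (.and (.eq (.mul (.v 0) (.c 1)) (.mul (.c 1)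
    (.v 0))) (.and (.lt (.mul (.mul (.v 0) (.v 0)) (.mul (.v 0) (.v 0))) (.and (.eq (.mul (.mul (.v 0) (.v 0)) (.v 0)) .one) (.imp (.eq (.v
    0) .one) (.mem (.v 1) 1)))) (.imp (.eq (.mul (.mul (.v 0) (.v 0)) (.v 0)) .one) (.and (.imp (.eq (.mul (.mul (.v 0) (.c 2)) (.inv (.v
    0))) (.mul (.c 3) (.c 2))) (.imp (.eq (.mul (.mul (.v 0) (.c 3)) (.inv (.v 0))) (.c 2)) (.imp (.eq (.mul (.mul (.v 0) (.mul (.mul (.c 2)
    (.c 1)) (.c 4))) (.inv (.v 0))) (.mul (.mul (.mul (.c 1) (.c 2)) (.c 3)) (.c 5))) (.imp (.eq (.mul (.mul (.v 0) (.mul (.mul (.mul (.c 1)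
    (.c 2)) (.c 3)) (.c 5))) (.inv (.v 0))) (.mul (.mul (.mul (.mul (.c 1) (.c 2)) (.c 3)) (.c 5)) (.mul (.mul (.c 2) (.c 1)) (.c 4)))) (.eq
    (.v 0) (.c 6)))))) (.and (.imp (.eq (.mul (.mul (.v 0) (.c 2)) (.inv (.v 0))) (.mul (.mul (.c 2) (.c 1)) (.c 4))) (.imp (.eq (.mul (.mul
    (.v 0) (.c 3)) (.inv (.v 0))) (.mul (.mul (.mul (.mul (.c 1) (.c 2)) (.c 3)) (.c 5)) (.mul (.mul (.c 2) (.c 1)) (.c 4)))) (.imp (.eq
    (.mul (.mul (.v 0) (.mul (.mul (.c 2) (.c 1)) (.c 4))) (.inv (.v 0))) (.mul (.mul (.mul (.mul (.c 2) (.c 1)) (.c 4)) (.c 2)) (.c 1)))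
    (.imp (.eq (.mul (.mul (.v 0) (.mul (.mul (.mul (.c 1) (.c 2)) (.c 3)) (.c 5))) (.inv (.v 0))) (.mul (.mul (.c 3) (.mul (.mul (.mul (.c
    1) (.c 2)) (.c 3)) (.c 5))) (.c 2))) (.eq (.v 0) (.c 9)))))) (.and (.imp (.eq (.mul (.mul (.v 0) (.c 2)) (.inv (.v 0))) (.mul (.mul (.c
    2) (.c 3)) (.c 2))) (.imp (.eq (.mul (.mul (.v 0) (.mul (.c 2) (.c 3))) (.inv (.v 0))) (.c 2)) (.imp (.eq (.mul (.mul (.v 0) (.c 4))
    (.inv (.v 0))) (.mul (.c 4) (.c 5))) (.imp (.eq (.mul (.mul (.v 0) (.mul (.c 4) (.c 5))) (.inv (.v 0))) (.mul (.mul (.c 4) (.c 5)) (.c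
    4))) (.eq (.v 0) (.c 7)))))) (.imp (.eq (.mul (.mul (.v 0) (.c 2)) (.inv (.v 0))) (.c 4)) (.imp (.eq (.mul (.mul (.v 0) (.mul (.c 2) (.c
    3))) (.inv (.v 0))) (.mul (.mul (.c 4) (.c 5)) (.c 4))) (.imp (.eq (.mul (.mul (.v 0) (.c 4)) (.inv (.v 0))) (.mul (.mul (.c 4) (.c 2))
    (.c 1))) (.imp (.eq (.mul (.mul (.v 0) (.mul (.c 4) (.c 5))) (.inv (.v 0))) (.mul (.mul (.mul (.c 2) (.c 3)) (.mul (.c 4) (.c 5))) (.c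
    2))) (.eq (.v 0) (.c 8))))))))))))) (.and (.all 1 (.and (.mem (.mul (.mul (.c 6) (.v 0)) (.c 7)) 1) (.and (.mem (.mul (.mul (.c 8) (.v
    0)) (.c 9)) 1) (.imp (.eq (.mul (.v 0) (.v 0)) .one) (.and (.or (.eq (.v 0) .one) (.or (.eq (.v 0) (.c 1)) (.ex 0 (.eq (.mul (.mul (.v 0)
    (.c 2)) (.inv (.v 0))) (.v 1))))) (.imp (.eq (.mul (.v 0) (.c 2)) (.mul (.c 2) (.v 0))) (.or (.mem (.v 0) 2) (.ex 2 (.or (.eq (.v 1)
    (.mul (.c 3) (.v 0))) (.eq (.v 1) (.mul (.c 4) (.v 0)))))))))))) (.and (.all 2 (.and (.eq (.inv (.v 0)) (.v 0)) (.and (.mem (.v 0) 1)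
    (.and (.eq (.mul (.v 0) (.c 3)) (.mul (.c 3) (.v 0))) (.and (.eq (.mul (.v 0) (.c 4)) (.mul (.c 4) (.v 0))) (.and (.eq (.mul (.v 0) (.c
    2)) (.mul (.c 2) (.v 0))) (.ex 2 (.or (.and (.eq (.v 1) .one) (.eq (.v 0) .one)) (.or (.and (.eq (.v 1) (.c 1)) (.eq (.v 0) (.c 2))) (.or
    (.and (.eq (.v 1) (.c 2)) (.eq (.v 0) (.c 1))) (.and (.eq (.v 1) (.mul (.c 2) (.c 1))) (.eq (.v 0) (.mul (.c 2) (.c 1)))))))))))))) (.and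
    (.all 2 (.all 2 (.all 1 (.imp (.eq (.mul (.v 0) (.v 0)) .one) (.imp (.eq (.mul (.mul (.v 0) (.c 2)) (.inv (.v 0))) (.mul (.c 2) (.c 1)))
    (.imp (.eq (.mul (.mul (.mul (.v 2) (.c 3)) (.v 0)) (.mul (.mul (.v 2) (.c 3)) (.v 0))) (.c 1)) (.imp (.eq (.mul (.mul (.v 1) (.c 4)) (.v
    0)) (.mul (.v 0) (.mul (.v 1) (.c 4)))) (.imp (.all 2 (.and (.imp (.eq (.v 1) (.mul (.c 5) (.v 0))) (.eq (.mul (.v 1) (.v 0)) (.c 5)))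
    (.and (.imp (.eq (.v 1) (.mul (.mul (.c 5) (.v 0)) (.c 3))) (.eq (.mul (.mul (.v 1) (.v 0)) (.mul (.v 3) (.c 3))) (.c 5))) (.and (.imp
    (.eq (.v 1) (.mul (.mul (.c 5) (.v 0)) (.c 4))) (.eq (.mul (.mul (.v 1) (.v 0)) (.mul (.v 2) (.c 4))) (.c 5))) (.imp (.eq (.v 1) (.mul
    (.mul (.mul (.c 5) (.v 0)) (.c 3)) (.c 4))) (.eq (.mul (.mul (.mul (.v 1) (.v 0)) (.mul (.v 3) (.c 3))) (.mul (.v 2) (.c 4))) (.c
    5))))))) (.or (.ex 1 (.and (.eq (.mul (.mul (.v 0) (.c 2)) (.inv (.v 0))) (.c 2)) (.and (.eq (.mul (.mul (.v 0) (.c 3)) (.inv (.v 0)))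
    (.mul (.v 3) (.c 3))) (.and (.eq (.mul (.mul (.v 0) (.c 4)) (.inv (.v 0))) (.mul (.v 2) (.c 4))) (.eq (.mul (.mul (.v 0) (.c 5)) (.inv
    (.v 0))) (.v 1)))))) (.and (.or (.and (.eq (.v 2) .one) (.or (.eq (.v 1) (.mul (.c 2) (.c 1))) (.eq (.v 1) (.c 2)))) (.or (.and (.eq (.v
    2) (.c 2)) (.or (.eq (.v 1) .one) (.eq (.v 1) (.mul (.c 2) (.c 1))))) (.and (.eq (.v 2) (.mul (.c 2) (.c 1))) (.or (.eq (.v 1) .one) (.eq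
    (.v 1) (.c 2)))))) (.and (.imp (.eq (.v 2) .one) (.imp (.eq (.v 1) (.mul (.c 2) (.c 1))) (.ex 2 (.eq (.mul (.mul (.v 0) (.v 1)) (.inv (.v
    0))) (.mul (.mul (.mul (.c 1) (.c 2)) (.c 3)) (.c 5)))))) (.imp (.eq (.v 2) (.c 2)) (.imp (.eq (.v 1) .one) (.ex 2 (.eq (.mul (.mul (.v
    0) (.v 1)) (.inv (.v 0))) (.mul (.c 4) (.c 5))))))))))))))))) (.all 2 (.all 2 (.imp (.or (.and (.eq (.v 1) .one) (.or (.eq (.v 0) (.mul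
    (.c 2) (.c 1))) (.eq (.v 0) (.c 2)))) (.or (.and (.eq (.v 1) (.c 2)) (.or (.eq (.v 0) .one) (.eq (.v 0) (.mul (.c 2) (.c 1))))) (.and
    (.eq (.v 1) (.mul (.c 2) (.c 1))) (.or (.eq (.v 0) .one) (.eq (.v 0) (.c 2)))))) (.all 2 (.all 2 (.imp (.or (.and (.eq (.v 1) .one) (.or
    (.eq (.v 0) (.mul (.c 2) (.c 1))) (.eq (.v 0) (.c 2)))) (.or (.and (.eq (.v 1) (.c 2)) (.or (.eq (.v 0) .one) (.eq (.v 0) (.mul (.c 2)
    (.c 1))))) (.and (.eq (.v 1) (.mul (.c 2) (.c 1))) (.or (.eq (.v 0) .one) (.eq (.v 0) (.c 2)))))) (.imp (.or (.and (.or (.and (.eq (.v 3)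
    .one) (.eq (.v 3) .one)) (.or (.and (.eq (.v 3) (.c 1)) (.eq (.v 3) (.c 2))) (.or (.and (.eq (.v 3) (.c 2)) (.eq (.v 3) (.c 1))) (.and
    (.eq (.v 3) (.mul (.c 2) (.c 1))) (.eq (.v 3) (.mul (.c 2) (.c 1))))))) (.or (.and (.eq (.v 2) .one) (.eq (.v 1) .one)) (.or (.and (.eq
    (.v 2) (.c 1)) (.eq (.v 1) (.c 2))) (.or (.and (.eq (.v 2) (.c 2)) (.eq (.v 1) (.c 1))) (.and (.eq (.v 2) (.mul (.c 2) (.c 1))) (.eq (.v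
    1) (.mul (.c 2) (.c 1)))))))) (.or (.and (.eq (.v 3) .one) (.eq (.v 2) .one)) (.or (.and (.eq (.v 3) (.c 1)) (.eq (.v 2) (.c 2))) (.or
    (.and (.eq (.v 3) (.c 2)) (.eq (.v 2) (.c 1))) (.and (.eq (.v 3) (.mul (.c 2) (.c 1))) (.eq (.v 2) (.mul (.c 2) (.c 1)))))))) (.imp (.or
    (.or (.and (.eq (.v 0) .one) (.eq (.v 0) .one)) (.or (.and (.eq (.v 0) (.c 1)) (.eq (.v 0) (.c 2))) (.or (.and (.eq (.v 0) (.c 2)) (.eq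
    (.v 0) (.c 1))) (.and (.eq (.v 0) (.mul (.c 2) (.c 1))) (.eq (.v 0) (.mul (.c 2) (.c 1))))))) (.or (.and (.eq (.v 0) .one) (.eq (.v 1)
    .one)) (.or (.and (.eq (.v 0) (.c 1)) (.eq (.v 1) (.c 2))) (.or (.and (.eq (.v 0) (.c 2)) (.eq (.v 1) (.c 1))) (.and (.eq (.v 0) (.mul
    (.c 2) (.c 1))) (.eq (.v 1) (.mul (.c 2) (.c 1)))))))) (.or (.and (.eq (.v 3) .one) (.and (.eq (.v 2) (.mul (.c 2) (.c 1))) (.and (.eq
    (.v 1) (.mul (.c 2) (.c 1))) (.eq (.v 0) .one)))) (.and (.eq (.v 3) (.mul (.c 2) (.c 1))) (.and (.eq (.v 2) .one) (.and (.eq (.v 1) .one)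
    (.eq (.v 0) (.mul (.c 2) (.c 1))))))))))))))))))))))))))))))))))))))))))))))))))))))) = true := by decide +kernel

theorem FK_of {z u e f s y p : G} {H : Subgroup (Equiv.Perm (Fin 48))} {φ : H →* G} (hφ : Function.Injective φ)
    (hC : ∀ i, R c48 φ (getL gsK (idN 48) i) (gK z u e f s y p i)) : FK z u e f s y p := by
  obtain ⟨h_u1, h_uz, h_z2, h_u2, h_e2, h_f2, h_s2, h_y3, h_p3, h_zu, h_ue, h_uf, h_fs, h_ef, h_fe, h_es, h_sus, h_eV, h_fV, h_yu, h_ye, h_yf, h_ys, h_ps, h_pu, h_pe, h_pf, h_k1, h_k2, h_k3, h_k4, h_k5, h_k6, h_cK, h_cV, h_cQ, h_hK, h_hQ, h_hV, h_ft, h_fc⟩ := chk_sound' hφ hC FK_chk0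
  exact ⟨h_u1, h_uz, h_z2, h_u2, h_e2, h_f2, h_s2, h_y3, h_p3, h_zu, h_ue, h_uf, h_fs, h_ef, h_fe, h_es, h_sus, h_eV, h_fV, h_yu, h_ye, h_yf,
    h_ys, h_ps, h_pu, h_pe, h_pf, h_k1, h_k2, h_k3, h_k4, h_k5, h_k6, h_cK, h_cV, h_cQ, h_hK, h_hQ, h_hV, h_ft, h_fc⟩

end Cfsg.Lib.U43
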