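import Cfsg.Agent.Lib.U43.Top
import Cfsg.Agent.Lib.U43.FK

/-! Identification of the involution centraliser in a group of type `U₄(3)`. -/

set_option autoImplicit false
set_option maxRecDepth 100000
set_option linter.unusedSectionVars false

namespace Cfsg.Lib.U43

open Cfsg.Lib.FO Subgroup Cfsg.Lib.Amalg Cfsg.Lib.Golay Cfsg.Lib.Psp43
open Cfsg.Lib.Comp (IvOK Rels ev)

universe v

variable {G : Type v} [Group G] [Finite G] {z u e t f w s y p g a b : G}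

set_option hygiene false in
local notation "𝐊" => gen [z, u, e, f, s, y, p]
set_option hygiene false in
local notation "𝐐" => gen [z, u, e, f, s]
set_option hygiene false in
local notation "𝐕" => gen [z, u]

theorem comm_mem4 {K H : Subgroup G} (hn : H ≤ 𝐍 K) (hi : K.relIndex H = 4) (ha : a ∈ H) (hb : b ∈ H) :
    a * b * a⁻¹ * b⁻¹ ∈ K := by
  have : (K.subgroupOf H).Normal := normal_subgroupOf_of_le_normalizer hn
  have h := (IsPGroup.isMulCommutative_of_card_eq_prime_sq (p := 2) (G := H ⧸ K.subgroupOf H) hi).is_comm.comm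
    (QuotientGroup.mk ⟨a, ha⟩) (QuotientGroup.mk ⟨b, hb⟩)
  have k : (⟨a, ha⟩ * ⟨b, hb⟩ * ⟨a, ha⟩⁻¹ * ⟨b, hb⟩⁻¹ : H) ∈ K.subgroupOf H := by
    rw [← QuotientGroup.eq_one_iff, QuotientGroup.mk_mul, QuotientGroup.mk_mul, QuotientGroup.mk_mul, h]; simp
  exact k

theorem cj3 (g : G) {a x x' : G} (h : a * x * a⁻¹ = x') : g * a * g⁻¹ * (g * x * g⁻¹) * (g * a * g⁻¹)⁻¹ = g * x' * g⁻¹ := by
  rw [← h]; group

theorem r1 {a b : G} (ha : a * a = 1) (hb : b * b = 1) (h : b * a * b⁻¹ = a) : (a * (b * 1)) ^ (1 + 1) = 1 := by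
  rw [mul_one, Commute.mul_pow (cm_of_cj h).symm, pow_two, pow_two, ha, hb, one_mul]

theorem r2 {x x' d : G} (ht : t * t = 1) (h : t * x * t⁻¹ = x') (k : x' * d = 1) : (t * (x * (t * d))) ^ (0 + 1) = 1 := by
  rw [← k, ← h, inv_eq_of_mul_eq_one_left ht]; simp [mul_assoc]

theorem r3 {c x x' d : G} (ht : t * t = 1) (h : t * x * t⁻¹ = x') (k : c * x' * d = 1) : (c * (t * (x * (t * d)))) ^ (0 + 1) = 1 := by
  rw [← k, ← h, inv_eq_of_mul_eq_one_left ht]; simp [mul_assoc]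

theorem r4 {x : G} (ht : t * t = 1) (h : t * x * t⁻¹ = x⁻¹) : (t * (x * 1)) ^ (1 + 1) = 1 := by
  rw [inv_eq_of_mul_eq_one_left ht] at h; rw [mul_one, pow_two, ← mul_assoc, h, inv_mul_cancel]

structure Hy (z u e f s y p : G) : Prop where
  rel : Rels (gK z u e f s y p) Comp.U43k.R
  z1 : z ≠ 1
  nK : ∀ g, g * z = z * g → ∀ k ∈ gen [z, u, e, f, s, y, p], g * k * g⁻¹ ∈ gen [z, u, e, f, s, y, p]
  nQ : ∀ g, g * z = z * g → ∀ q ∈ gen [z, u, e, f, s], g * q * g⁻¹ ∈ gen [z, u, e, f, s]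
  cQ : ∀ g, g * z = z * g → (∀ q ∈ gen [z, u, e, f, s], q * g = g * q) → g ∈ gen [z, u, e, f, s]
  cH : Nat.card (centralizer ({z} : Set G)) = 1152
  nwc : ∃ g, g * z * g⁻¹ ∈ gen [z, u, e, f, s] ∧ g * z * g⁻¹ ≠ z
  QQ : ∀ g, g * z * g⁻¹ ∈ gen [z, u, e, f, s] → g * z * g⁻¹ ≠ z →
    Nat.card (gen [z, u, e, f, s] ⊓ cj g (gen [z, u, e, f, s]) :) = 4

structure TW (z u e f s t w : G) : Prop where
  t2 : t * t = 1
  w2 : w * w = 1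
  tw : t * w * (t * w) = z
  tz : t * z * t⁻¹ = z
  tu : t * u * t⁻¹ = u
  te : t * e * t⁻¹ = e
  tf : t * f * t⁻¹ = u * z * f
  ts : t * s * t⁻¹ = z * u * e * s
  wz : w * z * w⁻¹ = z
  wu : w * u * w⁻¹ = u
  we : w * e * w⁻¹ = u * e
  wf : w * f * w⁻¹ = f
  ws : w * s * w⁻¹ = f * s

def σk (x : ℕ) : ℕ := if x < 4 then x else if x = 4 then 5 else x + 2

def RT : List (List ℕ × ℕ) := [([4],1), ([6],1), ([1,4],1), ([1,6],1), ([2,4],1), ([2,6],1), ([3,4],1), ([5,6],1),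
  ([3,6,3,6,2],0), ([4,5,4,5,2,1],0), ([4,6,4,6,1],0), ([4,7,4,7,3,2,1],0), ([6,7,6,7,5],0), ([8,4,9,4],0), ([6,8],1),
  ([10,6,11,6],0), ([4,10],1)]

theorem fk_of (h : Rels (gK z u e f s y p) Comp.U43k.R) (z1 : z ≠ 1) : FK z u e f s y p :=
  let ⟨_, h1, h2⟩ := embK h z1; FK_of h1 h2

theorem FK.QK (_ : FK z u e f s y p) : 𝐐 ≤ 𝐊 := gen_le.2 fun x hx => mem_gen (by simp at hx ⊢; tauto)

theorem FK.two (F : FK z u e f s y p) {k : G} (hk : k ∈ 𝐊) {n : ℕ} (h : k ^ 2 ^ n = 1) : k ∈ 𝐐 := by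
  refine (F.hK k hk).2.1.2 (orderOf_eq_one_iff.1 (Nat.eq_one_of_dvd_coprimes (Nat.Coprime.pow_right n (by decide : Nat.Coprime 3 2))
    (orderOf_dvd_of_pow_eq_one (by rw [pow_three', (F.hK k hk).2.1.1])) (orderOf_dvd_of_pow_eq_one ?_)))
  rw [← pow_two, ← pow_two, ← pow_mul, ← pow_mul, ← mul_assoc, mul_comm, pow_mul, h, one_pow]

theorem Sw.cj (g1 : g * z * g⁻¹ = u) (g2 : g * u * g⁻¹ = z) (zu : z * u = u * z) (h : Sw z u a b) : g * a * g⁻¹ = b := by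
  rcases h with ⟨h1, h2⟩ | ⟨h1, h2⟩ | ⟨h1, h2⟩ | ⟨h1, h2⟩ <;> rw [h1, h2]
  exacts [by simp, g1, g2, by rw [cjm, g1, g2, zu]]

namespace Hy
variable (h : Hy z u e f s y p)
include h

theorem fk : FK z u e f s y p := fk_of h.rel h.z1

theorem hc (k : TW z u e f s t w) : Hc z u e t f w s y p := by
  have F := h.fk
  have Y : ∀ g : G, g * z * g⁻¹ = z → ∀ x ∈ [y, p], x * x * x = 1 → _ := fun g hg x hx x3 =>
    (F.hK _ (h.nK g (cm_of_cj hg) x (mem_gen (by simp at hx ⊢; tauto)))).2.2 (by rw [conj_mul, conj_mul, x3]; simp)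
  have ty := (Y t k.tz y (by simp) F.y3).1 (by simpa only [cjm t, k.tu, k.te] using cj3 t F.yu) (by simpa only [k.tu, k.te] using cj3 t F.ye)
    (by simpa only [k.tf, k.ts] using cj3 t F.yf) (by simpa only [cjm t, k.tf, k.ts] using cj3 t F.ys)
  have tp := (Y t k.tz p (by simp) F.p3).2.1 (by simpa only [k.tu, k.tf] using cj3 t F.pu)
    (by simpa only [cjm t, k.te, k.tf, k.ts] using cj3 t F.pe) (by simpa only [cjm t, k.tf, k.tu, k.tz] using cj3 t F.pf)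
    (by simpa only [cjm t, k.te, k.tu, k.ts] using cj3 t F.ps)
  have wy := (Y w k.wz y (by simp) F.y3).2.2.1 (by simpa only [cjm w, k.wu, k.we] using cj3 w F.yu)
    (by simpa only [k.wu, k.we] using cj3 w F.ye) (by simpa only [k.wf, k.ws] using cj3 w F.yf)
    (by simpa only [cjm w, k.wf, k.ws] using cj3 w F.ys)
  have wp := (Y w k.wz p (by simp) F.p3).2.2.2 (by simpa only [k.wu, k.wf] using cj3 w F.pu)
    (by simpa only [cjm w, k.we, k.wf, k.ws] using cj3 w F.pe) (by simpa only [cjm w, k.wf, k.wu, k.wz] using cj3 w F.pf)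
    (by simpa only [cjm w, k.we, k.wu, k.ws] using cj3 w F.ps)
  have q : ∀ {a : G}, a * a = 1 → (a * 1) ^ (1 + 1) = 1 := fun ha => by rwa [mul_one, pow_two]
  have T : Rels (gH z u e t f w s y p) RT :=
    .cons (q k.t2) (.cons (q k.w2) (.cons (r1 F.z2 k.t2 k.tz) (.cons (r1 F.z2 k.w2 k.wz) (.cons (r1 F.u2 k.t2 k.tu)
    (.cons (r1 F.u2 k.w2 k.wu) (.cons (r1 F.e2 k.t2 k.te) (.cons (r1 F.f2 k.w2 k.wf) (.cons (r3 k.w2 k.we F.k4)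
    (.cons (r2 k.t2 k.tf F.k1) (.cons (show (t * (w * (t * (w * (z * 1))))) ^ 1 = 1 by
      rw [pow_one, ← mul_assoc, ← mul_assoc t, ← mul_assoc, k.tw, mul_one, F.z2]) (.cons (r2 k.t2 k.ts F.k2) (.cons (r2 k.w2 k.ws F.k3)
    (.cons (r3 k.t2 ((conj_inv ..).symm.trans (congrArg _ ty)) (show y * y⁻¹ * 1 = 1 by simp)) (.cons (r4 k.w2 wy)
    (.cons (r3 k.w2 ((conj_inv ..).symm.trans (congrArg _ wp)) (show p * p⁻¹ * 1 = 1 by simp)) (.cons (r4 k.t2 tp)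
    fun _ h => nomatch h))))))))))))))))
  exact ⟨(T.append (rels_congr σk h.rel fun r hr x hx => by
    have := (by decide +kernel : ∀ r ∈ Comp.U43k.R, ∀ x ∈ r.1, x ≤ 9) r hr x hx
    interval_cases x <;> rfl)).mono (by decide +kernel), h.z1⟩

theorem QV (g1 : g * z * g⁻¹ = u) (q : G) (hq : q ∈ 𝐐) (hg : g * q * g⁻¹ ∈ 𝐐) : g * q * g⁻¹ ∈ 𝐕 := by
  have F := h.fk
  have h1 : 𝐊 ≤ centralizer {z} := fun k hk => mem_centralizer_singleton_iff.2 (F.hK k hk).1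
  have h2 := relIndex_mul h1
  rw [F.cK, h.cH] at h2
  have c : ∀ x, u * x = x * u → g⁻¹ * x * g⁻¹⁻¹ ∈ centralizer {z} := fun x hx =>
    mem_centralizer_singleton_iff.2 (by nth_rw 1 2 [← cji g1]; exact (cm_cj _ hx).symm)
  have h3 := comm_mem4 (fun x hx => mem_normalizer_of_cj_le (by
    rintro _ ⟨k, hk, rfl⟩; exact h.nK x (mem_centralizer_singleton_iff.1 hx) k hk)) (show (𝐊).relIndex _ = 4 by omega)
    (c e F.ue) (c f F.uf)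
  rw [show _ * _ * _ * _ = g⁻¹ * z * g⁻¹⁻¹ by rw [← F.ef]; group] at h3
  have h4 : 𝐕 = 𝐐 ⊓ cj g 𝐐 := eq_of_le_of_card_ge (le_inf (fun v hv => (F.hV v hv).2.1) (gen_le.2 (by
    simp only [List.forall_mem_cons]
    exact ⟨mem_cj.2 (by simpa using F.two h3 (n := 1) (by rw [pow_one, pow_two, conj_mul, F.z2]; simp)),
      g1 ▸ conj_mem_cj g (mem_gen (by simp)), fun _ h => nomatch h⟩)))
    (by rw [h.QQ g (g1 ▸ mem_gen (by simp)) (g1 ▸ F.uz), F.cV])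
  exact h4.ge ⟨hg, conj_mem_cj g hq⟩

theorem swap : ∃ g, g * z * g⁻¹ = u ∧ g * u * g⁻¹ = z := by
  have F := h.fk
  have k : ∀ g : G, g * z * g⁻¹ ∈ 𝐐 → g * z * g⁻¹ ≠ z → ∃ k, k * z * k⁻¹ = z ∧ k * u * k⁻¹ = g * z * g⁻¹ := fun g h1 h2 => by
    rcases ((F.hQ _ h1).2.2 (by rw [conj_mul, F.z2]; simp)).1 with e | e | ⟨k, hk, e⟩
    exacts [(h.z1 (conj_eq_one_iff.1 e)).elim, (h2 e).elim, ⟨k, cj_of_cm (F.hK k hk).1, e⟩]
  obtain ⟨g, h1, h2⟩ := h.nwc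
  obtain ⟨a, -, a2⟩ := k g h1 h2
  have g1 := cjc2 rfl (a2 ▸ cji (rfl : a * u * a⁻¹ = _) : a⁻¹ * (g * z * g⁻¹) * a⁻¹⁻¹ = u)
  rw [show a⁻¹ * g = (a⁻¹ * g)⁻¹⁻¹ by simp] at g1
  generalize (a⁻¹ * g)⁻¹ = c at g1
  have h3 : z ∈ 𝐐 ⊓ cj c⁻¹ 𝐐 := by
    rw [← eq_of_le_of_card_ge (H := 𝐐 ⊓ cj c⁻¹ 𝐐) (K := 𝐕) (by rintro _ ⟨h1, q, hq, rfl⟩; exact h.QV g1 q hq h1)
      (by rw [h.QQ _ (g1 ▸ mem_gen (by simp)) (g1 ▸ F.uz), F.cV]) |>.symm]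
    exact mem_gen (by simp)
  obtain ⟨b, b1, b2⟩ := k c (by simpa using mem_cj.1 h3.2) fun e => F.uz (g1.symm.trans (cji e))
  exact ⟨_, cjc2 b1 g1, cjc2 b2 (cji rfl)⟩

theorem typ (az : a * z = z * a) (au : a * u = u * a) (a2 : a * a = 1) (aQ : a ∉ 𝐐) {c d : G} (hc : c ∈ 𝐕) (hd : d ∈ 𝐕)
    (ae : a * e * a⁻¹ = c * e) (af : a * f * a⁻¹ = d * f) : Ty z u c d ∧
    (c = 1 → d = u * z → ∃ v ∈ 𝐕, v * (a * s * a⁻¹) * v⁻¹ = z * u * e * s) ∧ (c = u → d = 1 → ∃ v ∈ 𝐕, v * (a * s * a⁻¹) * v⁻¹ = f * s) := by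
  have F := h.fk
  have z0 := cj_of_cm az
  have u0 := cj_of_cm au
  have v0 : ∀ v ∈ 𝐕, a * v * a⁻¹ = v := fun v hv => cj_of_cm (cgen (by simpa using ⟨az.symm, au.symm⟩) hv).symm
  have aa : a * (a * s * a⁻¹) * a⁻¹ = s := by rw [← cjc2 rfl rfl, a2]; simp
  refine (F.ft c hc d hd _ (h.nQ a az s (mem_gen (by simp))) (by rw [conj_mul, F.s2]; simp)
    (by simpa only [cjm a, u0, z0] using cj3 a F.sus) (by rw [← ae, conj_mul, conj_mul, F.es, z0]) (af ▸ cm_cj a F.fs)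
    fun v hv => ⟨fun e1 => ?_, fun e1 => ?_, fun e1 => ?_, fun e1 => ?_⟩).resolve_left fun ⟨q, hq, e1, e2, e3, e4⟩ => aQ ?_
  iterate 4 (nth_rw 2 [← aa, e1]; simp only [cjm a, v0 v hv, ae, af])
  have qz := cj_of_cm (F.hK q (F.QK hq)).1
  have := h.cQ (q⁻¹ * a) (cm_of_cj (cjc2 z0 (cji qz))) fun x hx => cgen (by
    simp only [List.forall_mem_cons]
    exact ⟨(cm_of_cj (cjc2 z0 (cji qz))).symm, (cm_of_cj (cjc2 u0 (cji e1))).symm, (cm_of_cj (cjc2 ae (cji e2))).symm,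
      (cm_of_cj (cjc2 af (cji e3))).symm, (cm_of_cj (cjc2 rfl (cji e4))).symm, fun _ h => nomatch h⟩) hx
  simpa using mul_mem hq this

theorem mk_tw (az : a * z = z * a) (au : a * u = u * a) (a2 : a * a = 1) (aQ : a ∉ 𝐐) (ae : a * e * a⁻¹ = 1 * e)
    (af : a * f * a⁻¹ = u * z * f) (bz : b * z = z * b) (bu : b * u = u * b) (b2 : b * b = 1) (bQ : b ∉ 𝐐)
    (be : b * e * b⁻¹ = u * z * e) (bf : b * f * b⁻¹ = 1 * f) (ab : a * b * (a * b) = u) : ∃ t w, TW z u e f s t w := by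
  have F := h.fk
  have hz : z ∈ 𝐕 := mem_gen (by simp)
  have hu : u ∈ 𝐕 := mem_gen (by simp)
  have bf' : b * f = f * b := cm_of_cj (bf.trans (one_mul f))
  have c1 : b * f * z = z * (b * f) := Commute.mul_left bz (F.hV z hz).2.2.2.1.symm
  have c2 : b * f * u = u * (b * f) := Commute.mul_left bu F.uf.symm
  have c3 : b * f * (b * f) = 1 := by rw [← pow_two, Commute.mul_pow bf', pow_two, pow_two, b2, F.f2, one_mul]
  have c4 : b * f * e * (b * f)⁻¹ = u * e := cjc2 F.fe (by rw [cjm, cj_of_cm bz, be, F.k5])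
  have c5 : b * f * f * (b * f)⁻¹ = 1 * f := cjc2 (mul_inv_cancel_right ..) bf
  obtain ⟨v, hv, e1⟩ := (h.typ az au a2 aQ (one_mem _) (mul_mem hu hz) ae af).2.1 rfl rfl
  obtain ⟨x, hx, e2⟩ := (h.typ c1 c2 c3 (fun e => bQ (by simpa using mul_mem e (inv_mem (mem_gen (x := f) (by simp))))) hu
    (one_mem _) c4 c5).2.2 rfl rfl
  have cv : ∀ {v}, v ∈ 𝐕 → ∀ {a}, a * z = z * a → a * u = u * a → Commute v a := fun hv _ h1 h2 =>
    cgen (by simpa using ⟨h1.symm, h2.symm⟩) hv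
  have v2 : ∀ {v}, v ∈ 𝐕 → v * v = 1 := fun hv => by nth_rw 1 [← (F.hV _ hv).1, inv_mul_cancel]
  have vz : ∀ {v}, v ∈ 𝐕 → Commute v z := fun hv => cv hv rfl F.zu
  have sq : ∀ {v a}, v ∈ 𝐕 → Commute v a → v * a * (v * a) = a * a := fun hv h1 => by
    rw [← pow_two, h1.mul_pow, pow_two, pow_two, v2 hv, one_mul]
  refine ⟨v * a, x * (b * f), (sq hv (cv hv az au)).trans a2, (sq hx (cv hx c1 c2)).trans c3, ?_, cjc2 (cj_of_cm az) (cj_of_cm (vz hv)),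
    cjc2 (cj_of_cm au) (cj_of_cm (F.hV v hv).2.2.2.2.1), cjc2 (ae.trans (one_mul e)) (cj_of_cm (F.hV v hv).2.2.1),
    cjc2 af (cj_of_cm (Commute.mul_right (Commute.mul_right (F.hV v hv).2.2.2.2.1 (vz hv)) (F.hV v hv).2.2.2.1)), cjc2 rfl e1,
    cjc2 (cj_of_cm c1) (cj_of_cm (vz hx)), cjc2 (cj_of_cm c2) (cj_of_cm (F.hV x hx).2.2.2.2.1),
    cjc2 c4 (cj_of_cm (Commute.mul_right (F.hV x hx).2.2.2.2.1 (F.hV x hx).2.2.1)),
    cjc2 (c5.trans (one_mul f)) (cj_of_cm (F.hV x hx).2.2.2.1), cjc2 rfl e2⟩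
  rw [(cv hx az au).symm.mul_mul_mul_comm, sq (mul_mem hv hx) (cv (mul_mem hv hx) (Commute.mul_left az c1) (Commute.mul_left au c2)),
    ← F.k6, ← cjc2 (cj_of_cm bf') af, ← ab]
  group

theorem exTW : ∃ t w, TW z u e f s t w := by
  have F := h.fk
  obtain ⟨g, g1, g2⟩ := h.swap
  have hz : z ∈ 𝐕 := mem_gen (by simp)
  have hu : u ∈ 𝐕 := mem_gen (by simp)
  have B : ∀ x ∈ 𝐐, x ∉ 𝐕 → u * x = x * u → x * x = 1 → g * x * g⁻¹ * z = z * (g * x * g⁻¹) ∧ g * x * g⁻¹ * u = u * (g * x * g⁻¹) ∧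
      g * x * g⁻¹ * (g * x * g⁻¹) = 1 ∧ g * x * g⁻¹ ∉ 𝐐 ∧
      (∀ r ∈ 𝐐, u * r = r * u → g * x * g⁻¹ * r * (g * x * g⁻¹)⁻¹ * r⁻¹ ∈ 𝐕) ∧
      ∃ v ∈ 𝐕, g * (g * x * g⁻¹) * g⁻¹ = e * v ∨ g * (g * x * g⁻¹) * g⁻¹ = f * v := fun x hx xV xu x2 => by
    have c1 : g * x * g⁻¹ * z = z * (g * x * g⁻¹) := g2 ▸ cm_cj g xu.symm
    have c2 : g * x * g⁻¹ * u = u * (g * x * g⁻¹) := g1 ▸ cm_cj g (F.hK x (F.QK hx)).1
    have c3 : g * x * g⁻¹ * (g * x * g⁻¹) = 1 := by rw [conj_mul, x2]; simp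
    have gV : g ∈ 𝐍 𝐕 := norm_gen (by simpa [g1, g2] using ⟨hu, hz⟩)
    refine ⟨c1, c2, c3, fun e => xV ((mem_normalizer_iff.1 gV x).2 (h.QV g1 x hx e)), fun r hr ru => ?_, ?_⟩
    · have e1 : g * (x * (g⁻¹ * r * g⁻¹⁻¹ * x⁻¹ * (g⁻¹ * r * g⁻¹⁻¹)⁻¹)) * g⁻¹ = g * x * g⁻¹ * r * (g * x * g⁻¹)⁻¹ * r⁻¹ := by group
      exact e1 ▸ h.QV g1 _ (mul_mem hx (h.nQ _ (cji g1 ▸ (cm_cj _ ru).symm) _ (inv_mem hx)))
        (e1 ▸ mul_mem (h.nQ _ c1 r hr) (inv_mem hr))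
    · refine (((F.hQ _ (cjc2 (g := g) (h := g) (a := x) rfl rfl ▸ h.nQ (g * g) (cm_of_cj (cjc2 g1 g2)) x hx)).2.2 (by rw [conj_mul, c3]; simp)).2 ?_).resolve_left
        fun e => xV ((mem_normalizer_iff.1 gV x).2 ((mem_normalizer_iff.1 gV _).2 e))
      nth_rw 1 2 [← g1]; exact cm_cj g c1
  have he : e ∈ 𝐐 := mem_gen (by simp)
  have hf : f ∈ 𝐐 := mem_gen (by simp)
  obtain ⟨a1, a2, a3, a4, a5, x, hx, a6⟩ := B e he F.eV F.ue F.e2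
  obtain ⟨b1, b2, b3, b4, b5, x', hx', b6⟩ := B f hf F.fV F.uf F.f2
  have ab : g * e * g⁻¹ * (g * f * g⁻¹) * (g * e * g⁻¹ * (g * f * g⁻¹)) = u := by
    rw [conj_mul, conj_mul, ← g1, ← F.ef, inv_eq_of_mul_eq_one_left F.e2, inv_eq_of_mul_eq_one_left F.f2, ← mul_assoc (e * f)]
  have key : ∀ {a r r' x b : G}, a * r * a⁻¹ * r⁻¹ ∈ 𝐕 → b * r' * b⁻¹ * r'⁻¹ ∈ 𝐕 → g * r * g⁻¹ = b → b * z = z * b → b * u = u * b →
      x ∈ 𝐕 → g * a * g⁻¹ = r' * x → Sw z u (a * r * a⁻¹ * r⁻¹) (b * r' * b⁻¹ * r'⁻¹) := fun {a r r' x b} h1 h2 h3 h4 h5 hx h6 => by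
    obtain ⟨c, -, hc⟩ := (F.hV _ h1).2.2.2.2.2
    have e1 : x * b * x⁻¹ = b := cj_of_cm (cgen (by simpa using ⟨h4.symm, h5.symm⟩) hx)
    have := hc.cj g1 g2 F.zu
    rw [cjm, cjm, cjm, conj_inv.symm, conj_inv.symm, h3, h6, cjc2 e1 rfl] at this
    rwa [← (F.hV _ h2).1, show (b * r' * b⁻¹ * r'⁻¹)⁻¹ = c by rw [← this]; group]
  have T1 := (h.typ a1 a2 a3 a4 (a5 e he F.ue) (a5 f hf F.uf) (by simp) (by simp)).1
  have T2 := (h.typ b1 b2 b3 b4 (b5 e he F.ue) (b5 f hf F.uf) (by simp) (by simp)).1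
  have m : ∀ {a r c : G}, a * r * a⁻¹ * r⁻¹ = c → a * r * a⁻¹ = c * r := mul_inv_eq_iff_eq_mul.1
  rcases F.fc _ (a5 e he F.ue) _ (a5 f hf F.uf) T1 _ (b5 e he F.ue) _ (b5 f hf F.uf) T2
    (a6.imp (fun e1 => ⟨key (a5 e he F.ue) (a5 e he F.ue) rfl a1 a2 hx e1, key (a5 f hf F.uf) (b5 e he F.ue) rfl b1 b2 hx e1⟩)
      fun e1 => key (a5 e he F.ue) (a5 f hf F.uf) rfl a1 a2 hx e1)
    (b6.symm.imp (key (b5 f hf F.uf) (b5 f hf F.uf) rfl b1 b2 hx') (key (b5 f hf F.uf) (b5 e he F.ue) rfl b1 b2 hx')) with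
    ⟨e1, e2, e3, e4⟩ | ⟨e1, e2, e3, e4⟩
  · exact h.mk_tw a1 a2 a3 a4 (m e1) (m e2) b1 b2 b3 b4 (m e3) (m e4) ab
  · refine h.mk_tw b1 b2 b3 b4 (m e3) (m e4) a1 a2 a3 a4 (m e1) (m e2) ?_
    rw [← cj_of_cm b2]; nth_rw 1 [← ab]; group

theorem ut : ∃ t w, UT z u e t f w s y p := by
  obtain ⟨t, w, k⟩ := h.exTW
  have c := h.hc k
  obtain ⟨g, g1, -⟩ := h.swap
  have := eq_of_le_of_card_ge (H := gen [t, w, s, y, p]) (K := centralizer {z})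
    (fun x hx => mem_centralizer_singleton_iff.2 (c.fh.hH x hx).1) (by rw [h.cH, c.fh.cH])
  exact ⟨t, w, c, fun g hg => this.ge (mem_centralizer_singleton_iff.2 hg), g, g1, h.QV g1⟩

end Hy

end Cfsg.Lib.U43
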