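import Cfsg.Agent.Lib.U43.Mod

/-! Facts on the involution centraliser of `U₄(3)`. -/

set_option autoImplicit false
set_option maxRecDepth 100000

namespace Cfsg.Lib.U43

open Cfsg.Lib.FO Subgroup Cfsg.Lib.Golay

variable {G : Type*} [Group G]

def Pv (z u a b : G) : Prop := (a = 1 ∧ b = 1) ∨ (a = z ∧ b = u) ∨ (a = u ∧ b = u * z) ∨ (a = u * z ∧ b = z)

structure FH (z u e t f w s y p : G) : Prop where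
  z1 : z ≠ 1
  uz : u ≠ z
  tz : t ≠ z
  y1 : y ≠ 1
  p1 : p ≠ 1
  z2 : z * z = 1
  u2 : u * u = 1
  e2 : e * e = 1
  t2 : t * t = 1
  f2 : f * f = 1
  w2 : w * w = 1
  s2 : s * s = 1
  y3 : y * y * y = 1
  p3 : p * p * p = 1
  yp : y * p = p * y
  zu : z * u = u * z
  ze : z * e = e * z
  zt : z * t = t * z
  zf : z * f = f * z
  zw : z * w = w * z
  ue : u * e = e * u
  ut : u * t = t * u
  uf : u * f = f * u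
  uw : u * w = w * u
  et : e * t = t * e
  fw : f * w = w * f
  ef : e * f * (e * f) = z
  sus : s * u * s⁻¹ = u * z
  ty : t * y * t⁻¹ = y
  tp : t * p * t⁻¹ = p⁻¹
  wy : w * y * w⁻¹ = y⁻¹
  wp : w * p * w⁻¹ = p
  wt : w * t * w⁻¹ = t * z
  tw : t * w * t⁻¹ = w * z
  eV : e ∉ gen [z, u]
  fV : f ∉ gen [z, u]
  cH : Nat.card (gen [t, w, s, y, p]) = 1152
  cS : Nat.card (gen [z, u, e, t, f, w, s]) = 128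
  cD : Nat.card (gen [y, p]) = 9
  cV : Nat.card (gen [z, u]) = 4
  hS : ∀ k ∈ gen [z, u, e, t, f, w, s], k ∈ gen [t, w, s, y, p]
  hQ : ∀ q ∈ gen [z, u, e, f, s], t * q * t⁻¹ ∈ gen [z, u, e, f, s] ∧ w * q * w⁻¹ ∈ gen [z, u, e, f, s] ∧ s * q * s⁻¹ ∈ gen [z, u, e, f, s] ∧ y
    * q * y⁻¹ ∈ gen [z, u, e, f, s] ∧ p * q * p⁻¹ ∈ gen [z, u, e, f, s] ∧ q ∈ gen [z, u, e, t, f, w, s]
  hT : ∀ k ∈ gen [z, u, e, t, f, w], k * k * (k * k) = 1 ∧ k * u = u * k ∧ k ∈ gen [z, u, e, t, f, w, s] ∧ (k * e = e * k → k * t = t * k → k *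
    f = f * k → k * w = w * k → ∃ x ∈ gen [z, u], Pv z u k x ∧ (s * k * s = x → k = 1 ∨ k = u))
  hD : ∀ d ∈ gen [y, p], d * d * d = 1 ∧ d * y = y * d ∧ d * p = p * d ∧ d ∈ gen [t, w, s, y, p] ∧ (d ∈ gen [y] ∨ ∃ a ∈ gen [y], p = a * d ∨ p
    = a * d⁻¹)
  hY : ∀ a ∈ gen [y], a = 1 ∨ a = y ∨ a = y⁻¹
  hV : ∀ v ∈ gen [z, u], v * v = 1 ∧ v ∈ gen [z, u, e, t, f, w] ∧ v ∈ gen [z, u, e, f, s] ∧ (∀ k ∈ gen [z, u, e, t, f, w], k * v = v * k) ∧ ∃ x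
    ∈ gen [z, u], Pv z u v x
  hH : ∀ k ∈ gen [t, w, s, y, p], k * z = z * k ∧ (k * u = u * k → k ∈ gen [z, u, e, t, f, w] ∧ (k * e = e * k → (k * t = t * k → k ∈ gen [z,
    u, e, t]) ∧ (k * f = f * k → k * s = s * k → k = 1 ∨ k = z)) ∧ (k * f = f * k → k * w = w * k → k ∈ gen [z, u, f, w])) ∧ (k * y = y * k →
    k * k ∈ gen [y, p] ∧ (k * p = p * k → k ∈ gen [y, p] ∨ k * z ∈ gen [y, p]) ∧ (k * k = 1 → k = 1 ∨ k = z ∨ ∃ d ∈ gen [y, p], k = d * t *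
    d⁻¹ ∨ k = d * (t * z) * d⁻¹)) ∧ ((k * y * k⁻¹) ∈ gen [y, p] → (k * y * k⁻¹) = y ∨ (k * y * k⁻¹) = y⁻¹) ∧ (k * k = 1 → (k * p = p * k → k
    = 1 ∨ k = z ∨ ∃ d ∈ gen [y, p], k = d * w * d⁻¹ ∨ k = d * (w * z) * d⁻¹) ∧ (k = 1 ∨ k = z ∨ (k ∈ gen [z, u, e, f, s] ∧ ∃ d ∈ gen [y, p],
    k = d * u * d⁻¹ ∨ k = d * (u * z) * d⁻¹) ∨ ∃ c ∈ gen [z, u, e, f, s], (c⁻¹ * k * c) * y = y * (c⁻¹ * k * c) ∨ (c⁻¹ * k * c) * p = p *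
    (c⁻¹ * k * c)))
  fa : ∀ a ∈ gen [z, u, e, t, f, w], a * a = 1 → a ∉ gen [z, u, e, f, s] → ∀ b ∈ gen [z, u, e, t, f, w], b ∉ gen [z, u, e, f, s] → b * b = 1 →
    a * b * (a * b) = u → (a * f = f * a ∧ b * e = e * b ∧ ∀ k ∈ gen [z, u, e, t, f, w], k * b = b * k → k * f = f * k → k ∈ gen [z, u]) ∨ ∃
    c ∈ gen [z, u, e, t, f, w], ∃ x ∈ gen [z, u], Pv z u ((e * (c⁻¹ * e * c))) x ∧ c * (a * x) * c⁻¹ = t ∧ ∃ x1 ∈ gen [z, u], Pv z u ((f *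
    (c⁻¹ * f * c))) x1 ∧ c * (b * x1) * c⁻¹ = w * f
  fc : ∀ c ∈ gen [z, u, e, t, f, w], c * t = t * c → ∃ v ∈ gen [z, u], ∃ x ∈ gen [z, u], Pv z u v x ∧ (c = v ∧ x ≠ e ∨ c = e * v ∧ t * x ≠ e ∨
    c = t * v ∧ c * x ≠ e ∨ c = t * e * v ∧ (c * t * x = e → c = t * e))
  fd : ∀ c ∈ gen [z, u, e, t, f, w], c * (w * f) = w * f * c → ∃ v ∈ gen [z, u], ∃ x ∈ gen [z, u], Pv z u v x ∧ (c = v ∧ x ≠ f ∨ c = f * v ∧ w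
    * f * x ≠ f ∨ c = w * f * v ∧ c * x ≠ f ∨ c = w * f * f * v ∧ (c * (w * f) * x = f → c = w * f * f))

theorem FH_chk0 : chk 48 2039 11 20 gsH [[(.c 4), (.c 6), (.c 7), (.c 8), (.c 10)], [(.c 1), (.c 2), (.c 3), (.c 4), (.c 5), (.c 6), (.c 7)],
    [(.c 1), (.c 2), (.c 3), (.c 4), (.c 5), (.c 6)], [(.c 1), (.c 2), (.c 3), (.c 5), (.c 7)], [(.c 1), (.c 2), (.c 3), (.c 4)], [(.c 1),
    (.c 2), (.c 5), (.c 6)], [(.c 1), (.c 2)], [(.c 8), (.c 10)], [(.c 8)]] (.and (.imp (.eq (.c 1) .one) .ff) (.and (.imp (.eq (.c 2) (.c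
    1)) .ff) (.and (.imp (.eq (.c 4) (.c 1)) .ff) (.and (.imp (.eq (.c 8) .one) .ff) (.and (.imp (.eq (.c 10) .one) .ff) (.and (.eq (.mul (.c
    1) (.c 1)) .one) (.and (.eq (.mul (.c 2) (.c 2)) .one) (.and (.eq (.mul (.c 3) (.c 3)) .one) (.and (.eq (.mul (.c 4) (.c 4)) .one) (.and
    (.eq (.mul (.c 5) (.c 5)) .one) (.and (.eq (.mul (.c 6) (.c 6)) .one) (.and (.eq (.mul (.c 7) (.c 7)) .one) (.and (.eq (.mul (.mul (.c 8)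
    (.c 8)) (.c 8)) .one) (.and (.eq (.mul (.mul (.c 10) (.c 10)) (.c 10)) .one) (.and (.eq (.mul (.c 8) (.c 10)) (.mul (.c 10) (.c 8)))
    (.and (.eq (.mul (.c 1) (.c 2)) (.mul (.c 2) (.c 1))) (.and (.eq (.mul (.c 1) (.c 3)) (.mul (.c 3) (.c 1))) (.and (.eq (.mul (.c 1) (.c
    4)) (.mul (.c 4) (.c 1))) (.and (.eq (.mul (.c 1) (.c 5)) (.mul (.c 5) (.c 1))) (.and (.eq (.mul (.c 1) (.c 6)) (.mul (.c 6) (.c 1)))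
    (.and (.eq (.mul (.c 2) (.c 3)) (.mul (.c 3) (.c 2))) (.and (.eq (.mul (.c 2) (.c 4)) (.mul (.c 4) (.c 2))) (.and (.eq (.mul (.c 2) (.c
    5)) (.mul (.c 5) (.c 2))) (.and (.eq (.mul (.c 2) (.c 6)) (.mul (.c 6) (.c 2))) (.and (.eq (.mul (.c 3) (.c 4)) (.mul (.c 4) (.c 3)))
    (.and (.eq (.mul (.c 5) (.c 6)) (.mul (.c 6) (.c 5))) (.and (.eq (.mul (.mul (.c 3) (.c 5)) (.mul (.c 3) (.c 5))) (.c 1)) (.and (.eq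
    (.mul (.mul (.c 7) (.c 2)) (.inv (.c 7))) (.mul (.c 2) (.c 1))) (.and (.eq (.mul (.mul (.c 4) (.c 8)) (.inv (.c 4))) (.c 8)) (.and (.eq
    (.mul (.mul (.c 4) (.c 10)) (.inv (.c 4))) (.c 11)) (.and (.eq (.mul (.mul (.c 6) (.c 8)) (.inv (.c 6))) (.c 9)) (.and (.eq (.mul (.mul
    (.c 6) (.c 10)) (.inv (.c 6))) (.c 10)) (.and (.eq (.mul (.mul (.c 6) (.c 4)) (.inv (.c 6))) (.mul (.c 4) (.c 1))) (.and (.eq (.mul (.mul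
    (.c 4) (.c 6)) (.inv (.c 4))) (.mul (.c 6) (.c 1))) (.and (.imp (.mem (.c 3) 6) .ff) (.and (.imp (.mem (.c 5) 6) .ff) (.and (.card 0
    1152) (.and (.card 1 128) (.and (.card 7 9) (.and (.card 6 4) (.and (.all 1 (.mem (.v 0) 0)) (.and (.all 3 (.and (.mem (.mul (.mul (.c 4)
    (.v 0)) (.inv (.c 4))) 3) (.and (.mem (.mul (.mul (.c 6) (.v 0)) (.inv (.c 6))) 3) (.and (.mem (.mul (.mul (.c 7) (.v 0)) (.inv (.c 7)))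
    3) (.and (.mem (.mul (.mul (.c 8) (.v 0)) (.c 9)) 3) (.and (.mem (.mul (.mul (.c 10) (.v 0)) (.c 11)) 3) (.mem (.v 0) 1))))))) (.and
    (.all 2 (.and (.eq (.mul (.mul (.v 0) (.v 0)) (.mul (.v 0) (.v 0))) .one) (.and (.eq (.mul (.v 0) (.c 2)) (.mul (.c 2) (.v 0))) (.and
    (.mem (.v 0) 1) (.imp (.eq (.mul (.v 0) (.c 3)) (.mul (.c 3) (.v 0))) (.imp (.eq (.mul (.v 0) (.c 4)) (.mul (.c 4) (.v 0))) (.imp (.eq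
    (.mul (.v 0) (.c 5)) (.mul (.c 5) (.v 0))) (.imp (.eq (.mul (.v 0) (.c 6)) (.mul (.c 6) (.v 0))) (.ex 6 (.and (.or (.and (.eq (.v 1)
    .one) (.eq (.v 0) .one)) (.or (.and (.eq (.v 1) (.c 1)) (.eq (.v 0) (.c 2))) (.or (.and (.eq (.v 1) (.c 2)) (.eq (.v 0) (.mul (.c 2) (.c
    1)))) (.and (.eq (.v 1) (.mul (.c 2) (.c 1))) (.eq (.v 0) (.c 1)))))) (.imp (.eq (.mul (.mul (.c 7) (.v 1)) (.c 7)) (.v 0)) (.or (.eq (.v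
    1) .one) (.eq (.v 1) (.c 2)))))))))))))) (.and (.all 7 (.and (.eq (.mul (.mul (.v 0) (.v 0)) (.v 0)) .one) (.and (.eq (.mul (.v 0) (.c
    8)) (.mul (.c 8) (.v 0))) (.and (.eq (.mul (.v 0) (.c 10)) (.mul (.c 10) (.v 0))) (.and (.mem (.v 0) 0) (.or (.mem (.v 0) 8) (.ex 8 (.or
    (.eq (.c 10) (.mul (.v 0) (.v 1))) (.eq (.c 10) (.mul (.v 0) (.inv (.v 1)))))))))))) (.and (.all 8 (.or (.eq (.v 0) .one) (.or (.eq (.v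
    0) (.c 8)) (.eq (.v 0) (.c 9))))) (.and (.all 6 (.and (.eq (.mul (.v 0) (.v 0)) .one) (.and (.mem (.v 0) 2) (.and (.mem (.v 0) 3) (.and
    (.all 2 (.eq (.mul (.v 0) (.v 1)) (.mul (.v 1) (.v 0)))) (.ex 6 (.or (.and (.eq (.v 1) .one) (.eq (.v 0) .one)) (.or (.and (.eq (.v 1)
    (.c 1)) (.eq (.v 0) (.c 2))) (.or (.and (.eq (.v 1) (.c 2)) (.eq (.v 0) (.mul (.c 2) (.c 1)))) (.and (.eq (.v 1) (.mul (.c 2) (.c 1)))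
    (.eq (.v 0) (.c 1)))))))))))) (.and (.all 0 (.and (.eq (.mul (.v 0) (.c 1)) (.mul (.c 1) (.v 0))) (.and (.imp (.eq (.mul (.v 0) (.c 2))
    (.mul (.c 2) (.v 0))) (.and (.mem (.v 0) 2) (.and (.imp (.eq (.mul (.v 0) (.c 3)) (.mul (.c 3) (.v 0))) (.and (.imp (.eq (.mul (.v 0) (.c
    4)) (.mul (.c 4) (.v 0))) (.mem (.v 0) 4)) (.imp (.eq (.mul (.v 0) (.c 5)) (.mul (.c 5) (.v 0))) (.imp (.eq (.mul (.v 0) (.c 7)) (.mul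
    (.c 7) (.v 0))) (.or (.eq (.v 0) .one) (.eq (.v 0) (.c 1))))))) (.imp (.eq (.mul (.v 0) (.c 5)) (.mul (.c 5) (.v 0))) (.imp (.eq (.mul
    (.v 0) (.c 6)) (.mul (.c 6) (.v 0))) (.mem (.v 0) 5)))))) (.and (.imp (.eq (.mul (.v 0) (.c 8)) (.mul (.c 8) (.v 0))) (.and (.mem (.mul
    (.v 0) (.v 0)) 7) (.and (.imp (.eq (.mul (.v 0) (.c 10)) (.mul (.c 10) (.v 0))) (.or (.mem (.v 0) 7) (.mem (.mul (.v 0) (.c 1)) 7)))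
    (.imp (.eq (.mul (.v 0) (.v 0)) .one) (.or (.eq (.v 0) .one) (.or (.eq (.v 0) (.c 1)) (.ex 7 (.or (.eq (.v 1) (.mul (.mul (.v 0) (.c 4))
    (.inv (.v 0)))) (.eq (.v 1) (.mul (.mul (.v 0) (.mul (.c 4) (.c 1))) (.inv (.v 0)))))))))))) (.and (.lt (.mul (.mul (.v 0) (.c 8)) (.inv
    (.v 0))) (.imp (.mem (.v 0) 7) (.or (.eq (.v 0) (.c 8)) (.eq (.v 0) (.c 9))))) (.imp (.eq (.mul (.v 0) (.v 0)) .one) (.and (.imp (.eq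
    (.mul (.v 0) (.c 10)) (.mul (.c 10) (.v 0))) (.or (.eq (.v 0) .one) (.or (.eq (.v 0) (.c 1)) (.ex 7 (.or (.eq (.v 1) (.mul (.mul (.v 0)
    (.c 6)) (.inv (.v 0)))) (.eq (.v 1) (.mul (.mul (.v 0) (.mul (.c 6) (.c 1))) (.inv (.v 0))))))))) (.or (.eq (.v 0) .one) (.or (.eq (.v 0)
    (.c 1)) (.or (.and (.mem (.v 0) 3) (.ex 7 (.or (.eq (.v 1) (.mul (.mul (.v 0) (.c 2)) (.inv (.v 0)))) (.eq (.v 1) (.mul (.mul (.v 0)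
    (.mul (.c 2) (.c 1))) (.inv (.v 0))))))) (.ex 3 (.lt (.mul (.mul (.inv (.v 0)) (.v 1)) (.v 0)) (.or (.eq (.mul (.v 0) (.c 8)) (.mul (.c
    8) (.v 0))) (.eq (.mul (.v 0) (.c 10)) (.mul (.c 10) (.v 0)))))))))))))))) (.and (.all 2 (.imp (.eq (.mul (.v 0) (.v 0)) .one) (.imp
    (.imp (.mem (.v 0) 3) .ff) (.all 2 (.imp (.imp (.mem (.v 0) 3) .ff) (.imp (.eq (.mul (.v 0) (.v 0)) .one) (.imp (.eq (.mul (.mul (.v 1)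
    (.v 0)) (.mul (.v 1) (.v 0))) (.c 2)) (.or (.and (.eq (.mul (.v 1) (.c 5)) (.mul (.c 5) (.v 1))) (.and (.eq (.mul (.v 0) (.c 3)) (.mul
    (.c 3) (.v 0))) (.all 2 (.imp (.eq (.mul (.v 0) (.v 1)) (.mul (.v 1) (.v 0))) (.imp (.eq (.mul (.v 0) (.c 5)) (.mul (.c 5) (.v 0))) (.mem
    (.v 0) 6)))))) (.ex 2 (.lt (.mul (.c 3) (.mul (.mul (.inv (.v 0)) (.c 3)) (.v 0))) (.ex 6 (.and (.or (.and (.eq (.v 1) .one) (.eq (.v 0)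
    .one)) (.or (.and (.eq (.v 1) (.c 1)) (.eq (.v 0) (.c 2))) (.or (.and (.eq (.v 1) (.c 2)) (.eq (.v 0) (.mul (.c 2) (.c 1)))) (.and (.eq
    (.v 1) (.mul (.c 2) (.c 1))) (.eq (.v 0) (.c 1)))))) (.and (.eq (.mul (.mul (.v 2) (.mul (.v 4) (.v 0))) (.inv (.v 2))) (.c 4)) (.lt
    (.mul (.c 5) (.mul (.mul (.inv (.v 2)) (.c 5)) (.v 2))) (.ex 6 (.and (.or (.and (.eq (.v 1) .one) (.eq (.v 0) .one)) (.or (.and (.eq (.v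
    1) (.c 1)) (.eq (.v 0) (.c 2))) (.or (.and (.eq (.v 1) (.c 2)) (.eq (.v 0) (.mul (.c 2) (.c 1)))) (.and (.eq (.v 1) (.mul (.c 2) (.c 1)))
    (.eq (.v 0) (.c 1)))))) (.eq (.mul (.mul (.v 4) (.mul (.v 5) (.v 0))) (.inv (.v 4))) (.mul (.c 6) (.c 5))))))))))))))))))) (.and (.all 2
    (.imp (.eq (.mul (.v 0) (.c 4)) (.mul (.c 4) (.v 0))) (.ex 6 (.ex 6 (.and (.or (.and (.eq (.v 1) .one) (.eq (.v 0) .one)) (.or (.and (.eq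
    (.v 1) (.c 1)) (.eq (.v 0) (.c 2))) (.or (.and (.eq (.v 1) (.c 2)) (.eq (.v 0) (.mul (.c 2) (.c 1)))) (.and (.eq (.v 1) (.mul (.c 2) (.c
    1))) (.eq (.v 0) (.c 1)))))) (.or (.and (.eq (.v 2) (.v 1)) (.imp (.eq (.v 0) (.c 3)) .ff)) (.or (.and (.eq (.v 2) (.mul (.c 3) (.v 1)))
    (.imp (.eq (.mul (.c 4) (.v 0)) (.c 3)) .ff)) (.or (.and (.eq (.v 2) (.mul (.c 4) (.v 1))) (.imp (.eq (.mul (.v 2) (.v 0)) (.c 3)) .ff))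
    (.and (.eq (.v 2) (.mul (.mul (.c 4) (.c 3)) (.v 1))) (.imp (.eq (.mul (.mul (.v 2) (.c 4)) (.v 0)) (.c 3)) (.eq (.v 2) (.mul (.c 4) (.c
    3))))))))))))) (.all 2 (.imp (.eq (.mul (.v 0) (.mul (.c 6) (.c 5))) (.mul (.mul (.c 6) (.c 5)) (.v 0))) (.ex 6 (.ex 6 (.and (.or (.and
    (.eq (.v 1) .one) (.eq (.v 0) .one)) (.or (.and (.eq (.v 1) (.c 1)) (.eq (.v 0) (.c 2))) (.or (.and (.eq (.v 1) (.c 2)) (.eq (.v 0) (.mul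
    (.c 2) (.c 1)))) (.and (.eq (.v 1) (.mul (.c 2) (.c 1))) (.eq (.v 0) (.c 1)))))) (.or (.and (.eq (.v 2) (.v 1)) (.imp (.eq (.v 0) (.c 5))
    .ff)) (.or (.and (.eq (.v 2) (.mul (.c 5) (.v 1))) (.imp (.eq (.mul (.mul (.c 6) (.c 5)) (.v 0)) (.c 5)) .ff)) (.or (.and (.eq (.v 2)
    (.mul (.mul (.c 6) (.c 5)) (.v 1))) (.imp (.eq (.mul (.v 2) (.v 0)) (.c 5)) .ff)) (.and (.eq (.v 2) (.mul (.mul (.mul (.c 6) (.c 5)) (.c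
    5)) (.v 1))) (.imp (.eq (.mul (.mul (.v 2) (.mul (.c 6) (.c 5))) (.v 0)) (.c 5)) (.eq (.v 2) (.mul (.mul (.c 6) (.c 5)) (.c
    5)))))))))))))))))))))))))))))))))))))))))))))))))))))))))))))) = true := by decide +kernel

theorem FH_of {z u e t f w s y p : G} {H : Subgroup (Equiv.Perm (Fin 48))} {φ : H →* G} (hφ : Function.Injective φ)
    (hC : ∀ i, R c48 φ (getL gsH (idN 48) i) (gH z u e t f w s y p i)) : FH z u e t f w s y p := by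
  obtain ⟨h_z1, h_uz, h_tz, h_y1, h_p1, h_z2, h_u2, h_e2, h_t2, h_f2, h_w2, h_s2, h_y3, h_p3, h_yp, h_zu, h_ze, h_zt, h_zf, h_zw, h_ue, h_ut, h_uf, h_uw, h_et, h_fw, h_ef, h_sus, h_ty, h_tp, h_wy, h_wp, h_wt, h_tw, h_eV, h_fV, h_cH, h_cS, h_cD, h_cV, h_hS, h_hQ, h_hT, h_hD, h_hY, h_hV, h_hH, h_fa, h_fc, h_fd⟩ := chk_sound' hφ hC FH_chk0
  exact ⟨h_z1, h_uz, h_tz, h_y1, h_p1, h_z2, h_u2, h_e2, h_t2, h_f2, h_w2, h_s2, h_y3, h_p3, h_yp, h_zu, h_ze, h_zt, h_zf, h_zw, h_ue, h_ut,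
    h_uf, h_uw, h_et, h_fw, h_ef, h_sus, h_ty, h_tp, h_wy, h_wp, h_wt, h_tw, h_eV, h_fV, h_cH, h_cS, h_cD, h_cV, h_hS, h_hQ, h_hT, h_hD,
    h_hY, h_hV, h_hH, h_fa, h_fc, h_fd⟩

end Cfsg.Lib.U43
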