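import Cfsg.Agent.Lib.Gold.BenAb
import Cfsg.Agent.Lib.Psp43.Co1

/-! A subgroup containing an involution centraliser and fusing its involutions is the whole group. -/

set_option autoImplicit false
set_option linter.unusedSectionVars false

namespace Cfsg.Lib.U43

open Subgroup Cfsg.Lib.Amalg Cfsg.Lib.Invol Cfsg.Lib.Gold Cfsg.Lib.Psp43
open Cfsg.Lib.BS (RO R2 Kg_le)

universe u

variable {G : Type u} [Group G] [Finite G]

theorem ord2 {x : G} (h : x * x = 1) (h1 : x ≠ 1) : orderOf x = 2 := orderOf_eq_prime (by rwa [pow_two]) h1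

theorem four_le {N L : Subgroup G} {x y : G} (hx : orderOf x = 2) (hy : orderOf y = 2) (hxy : x ≠ y) (hc : x * y = y * x)
    (hN : Odd (Nat.card N)) (hxN : x ∈ 𝐍 N) (hyN : y ∈ 𝐍 N) (h1 : ∀ g ∈ N, g * x = x * g → g ∈ L)
    (h2 : ∀ g ∈ N, g * y = y * g → g ∈ L) (h3 : ∀ g ∈ N, g * (x * y) = x * y * g → g ∈ L) : N ≤ L := by
  have hV := isKleinFour_closure hx hy hxy hc
  have : IsMulCommutative (closure ({x, y} : Set G)) := ⟨⟨fun a b => Subtype.ext (klein_commute hV a.2 b.2)⟩⟩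
  refine Coprime.le_of_forall_centralizer_le (A := closure ({x, y} : Set G)) hV.not_isCyclic
    ((closure_le _).mpr (by rintro _ (rfl | rfl) <;> assumption))
    (by rw [hV.card_four]; exact (hN.coprime_two_left).pow_left 2) fun a ha a1 g hg => ?_
  have k := mem_centralizer_singleton_iff.1 hg.2
  rcases (mem_closure_klein hx hy hc a).mp ha with rfl | rfl | rfl | rfl
  exacts [absurd rfl a1, h1 g hg.1 k, h2 g hg.1 k, h3 g hg.1 k]

theorem se_moves' {S H : Subgroup G} {z : G} (hO : oddCore G = ⊥) (hS : Syl 2 S ⊤) (hH : IsStronglyEmbedded H) (hz : z ∈ S)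
    (z2 : orderOf z = 2) : ∃ g ∈ 𝐍 S, g * z * g⁻¹ ≠ z := by
  obtain ⟨H, t, r, r2⟩ : ∃ (H : Subgroup G) (t : G), RO H S t ∧ R2 (⊤ : Subgroup G) := by
    obtain ⟨Q, t, h, r2, -, gd⟩ := ro_of_se hH hO
    obtain ⟨P, hP⟩ := h.exists_sylow_le
    obtain ⟨g, -, rfl⟩ := ((syl_top P).eq_of_le Q hP le_top gd.two ▸ syl_top P : Syl 2 Q ⊤).exists_conj hS
    exact ⟨_, _, h.map (MulAut.conj g).toMonoidHom (MulAut.conj g).surjective
      (((MonoidHom.ker_eq_bot_iff _).2 (MulAut.conj g).injective).le.trans bot_le), r2⟩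
  obtain ⟨x, hx, y, hy, x2, y2, e, -⟩ := r.r2_Q r2
  obtain ⟨a, ha, e1⟩ := r.exists_K' z2 (r.le hz) x2 (r.le hx)
  obtain ⟨b, hb, e2⟩ := r.exists_K' z2 (r.le hz) y2 (r.le hy)
  by_contra! k
  exact e (by rw [← e1, ← e2, k a (r.norm (Kg_le _ _ ha).1), k b (r.norm (Kg_le _ _ hb).1)])

theorem top_of {S K : Subgroup G} {z : G} (hO : oddCore G = ⊥) (hS : Syl 2 S ⊤) (hz : z ∈ S) (z2 : orderOf z = 2)
    (hN : ∀ g ∈ 𝐍 S, g * z * g⁻¹ = z) (hC : ∀ g, g * z = z * g → g ∈ K)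
    (hK : ∀ i ∈ K, orderOf i = 2 → ∃ a ∈ K, a * z * a⁻¹ = i) : K = ⊤ := by
  by_contra hne
  obtain ⟨g, hg, e⟩ := se_moves' (H := K) hO hS ⟨hne, even_iff_two_dvd.2 (z2 ▸ orderOf_dvd_natCard K (hC z rfl)), fun g hg => by
    by_contra ho
    obtain ⟨i, hi⟩ := exists_prime_orderOf_dvd_card' 2 (even_iff_two_dvd.1 (Nat.not_odd_iff_even.1 ho))
    obtain ⟨j, hj, e⟩ := i.2.2
    have i2 : orderOf (i : G) = 2 := (orderOf_coe i).trans hi
    obtain ⟨a, ha, e1⟩ := hK i i.2.1 i2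
    obtain ⟨b, hb, e2⟩ := hK j hj (by rw [← i2, ← e]; exact ((MulAut.conj g).orderOf_eq j).symm)
    have : a⁻¹ * g * b ∈ K := hC _ (mul_inv_eq_iff_eq_mul.1 (by
      calc _ = a⁻¹ * (g * (b * z * b⁻¹) * g⁻¹) * a := by group
        _ = _ := by rw [e2, show g * j * g⁻¹ = i from e, ← e1]; group))
    exact hg (by simpa [mul_assoc] using mul_mem (mul_mem ha this) (inv_mem hb))⟩ hz z2
  exact e (hN g hg)

/-- an odd normal subgroup with trivial centraliser of three conjugate involutions of a four-group -/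
theorem core_bot {z u m : G} (z2 : z * z = 1) (h1 : m * z * m⁻¹ = u) (h2 : m * u * m⁻¹ = u * z)
    (h : ∀ g ∈ oddCore G, g * z = z * g → g = 1) : oddCore G = ⊥ := by
  have hO : Odd (Nat.card (oddCore G)) := Core.odd_card_oddCore G
  have k : ∀ g ∈ oddCore G, z * g * z⁻¹ = g⁻¹ := fun g hg => by
    obtain ⟨c, hc, i, -, e1, e2, rfl⟩ := decomp hO z2 (le_normalizer_of_normal (mem_top z)) hg
    rw [h c hc (mul_inv_eq_iff_eq_mul.1 e1).symm, one_mul, e2]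
  have k' : ∀ a b : G, m * a * m⁻¹ = b → (∀ g ∈ oddCore G, a * g * a⁻¹ = g⁻¹) → ∀ g ∈ oddCore G, b * g * b⁻¹ = g⁻¹ :=
    fun a b e ha g hg => by
    calc _ = m * (a * (m⁻¹ * g * m⁻¹⁻¹) * a⁻¹) * m⁻¹ := by rw [← e]; group
      _ = _ := by rw [ha _ (Normal.conj_mem inferInstance g hg _)]; group
  refine eq_bot_iff.2 fun g hg => eq_one_of_odd hO hg (k := 1) ?_
  have h3 := k' _ _ h2 (k' _ _ h1 k) g hg
  rw [mul_inv_rev, show u * z * g * (z⁻¹ * u⁻¹) = u * (z * g * z⁻¹) * u⁻¹ by group, k g hg, k' _ _ h1 k _ (inv_mem hg), inv_inv] at h3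
  rw [pow_one, pow_two]; nth_rw 1 [h3]; simp

end Cfsg.Lib.U43
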