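import Cfsg.Agent.Lib.U43.Ident
import Cfsg.Agent.Lib.Layer.FStar

/-! The hypotheses of type `U₄(3)`. -/

set_option autoImplicit false
set_option maxRecDepth 100000
set_option synthInstance.maxSize 100000

namespace Cfsg.Lib.U43

open Cfsg.Lib.FO Subgroup Cfsg.Lib.Amalg Cfsg.Lib.Golay Cfsg.Lib.Psp43
open Cfsg.Lib.Comp (Rels ev)

universe v

abbrev S3 := Matrix.SpecialLinearGroup (Fin 2) (ZMod 3)
def sX : S3 := ⟨!![1, 1; 0, 1], by decide⟩
def sA : S3 := ⟨!![0, 2; 1, 0], by decide⟩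

theorem gen3 {K : Subgroup S3} (h1 : sX ∈ K) (h2 : sA ∈ K) (m : S3) : m ∈ K := by
  obtain ⟨a, b, c, d, rfl⟩ := (by decide +kernel : ∀ g : S3, ∃ a b c d : Fin 4,
    g = sX ^ (a : ℕ) * sA ^ (b : ℕ) * sX ^ (c : ℕ) * sA ^ (d : ℕ)) m
  exact mul_mem (mul_mem (mul_mem (pow_mem h1 _) (pow_mem h2 _)) (pow_mem h1 _)) (pow_mem h2 _)

variable {G : Type v} [Group G] [Finite G] {i1 i2 : S3 →* G}

omit [Finite G] in
theorem comm3 (j1 : Function.Injective i1) (int : ∀ m n, i1 m = i2 n → m = 1 ∨ m = -1)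
    (n1 : ∀ m n, ∃ p, i2 n * i1 m * (i2 n)⁻¹ = i1 p) (n2 : ∀ m n, ∃ q, i1 m * i2 n * (i1 m)⁻¹ = i2 q) (m n : S3) :
    Commute (i1 m) (i2 n) := by
  have k : ∀ m, m * m * m = 1 → m ∈ (centralizer {i2 n}).comap i1 := fun m hm => by
    obtain ⟨p, hp⟩ := n1 m n
    obtain ⟨q, hq⟩ := n2 m n⁻¹
    have e := int (p * m⁻¹) (n * q) (by rw [map_mul, map_mul, ← hp, ← hq, map_inv, map_inv]; group)
    have e3 : p * p * p = 1 := j1 (by rw [map_mul, map_mul, ← hp, conj_mul, conj_mul, ← map_mul, ← map_mul, hm]; simp)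
    rw [(by decide +kernel : ∀ m p : S3, m * m * m = 1 → p * p * p = 1 → p * m⁻¹ = 1 ∨ p * m⁻¹ = -1 → p = m) m p hm e3 e] at hp
    exact mem_centralizer_singleton_iff.2 (mul_inv_eq_iff_eq_mul.1 hp).symm
  refine mem_centralizer_singleton_iff.1 (gen3 (K := (centralizer {i2 n}).comap i1) (k _ (by decide +kernel)) ?_ m)
  obtain ⟨p, q, p3, q3, e⟩ := (by decide +kernel : ∃ p q : S3, p * p * p = 1 ∧ q * q * q = 1 ∧ sA = p * q)
  exact e ▸ mul_mem (k p p3) (k q q3)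

omit [Finite G] in
theorem exK (hc : ∀ m n, Commute (i1 m) (i2 n)) (hz : i2 (-1) = i1 (-1)) : ∃ u e f s y p,
    Rels (gK (i1 (-1)) u e f s y p) Comp.U43k.R ∧ gen [i1 (-1), u, e, f, s, y, p] = i1.range ⊔ i2.range := by
  let ψ := i1.noncommCoprod i2 hc
  have k : ∀ a b : S3 × S3, a = b ∨ a = b * (-1, -1) → ψ a = ψ b := by
    rintro a b (rfl | rfl)
    exacts [rfl, by rw [map_mul, show ψ (-1, -1) = 1 by
      rw [MonoidHom.noncommCoprod_apply, hz, ← map_mul, neg_mul_neg, one_mul, map_one], mul_one]]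
  have l1 : ∀ m, ψ (m, 1) = i1 m := fun m => by simp [ψ]
  have l2 : ∀ m, ψ (1, m) = i2 m := fun m => by simp [ψ]
  let E := sX⁻¹ * sA * sX
  refine ⟨ψ (sA, sA), ψ (E, E), ψ (sX * sA * sX⁻¹, E), ψ (E, sA), ψ (sX, sX), ψ (sX, sX⁻¹), (rels_congr id (Rl := Comp.U43k.R)
    (γ := fun i => ψ (gK (-1, 1) (sA, sA) (E, E) (sX * sA * sX⁻¹, E) (E, sA) (sX, sX) (sX, sX⁻¹) i)) (fun r hr => ?_)
    fun r hr x hx => ?_).mono (by decide +kernel), le_antisymm (gen_le.2 ?_) (sup_le ?_ ?_)⟩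
  · rw [← Comp.ev_map, ← map_pow, k _ 1 ((by decide +kernel : ∀ r ∈ Comp.U43k.R, ∀ a ∈ [ev (gK (-1, 1) (sA, sA) (E, E)
      (sX * sA * sX⁻¹, E) (E, sA) (sX, sX) (sX, sX⁻¹)) r.1 ^ (r.2 + 1)], a = 1 ∨ a = 1 * (-1, -1)) r hr _ (.head _)), map_one]
  · have := (by decide +kernel : ∀ r ∈ Comp.U43k.R, ∀ x ∈ r.1, x ≤ 9) r hr x hx
    interval_cases x
    exacts [(map_one ψ).symm, (l1 _).symm, rfl, rfl, rfl, rfl, rfl, (map_inv ..).symm, rfl, (map_inv ..).symm]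
  · have m : ∀ a, ψ a ∈ i1.range ⊔ i2.range := fun a => mul_mem_sup ⟨_, rfl⟩ ⟨_, rfl⟩
    simp only [List.forall_mem_cons]
    exact ⟨l1 _ ▸ m _, m _, m _, m _, m _, m _, m _, fun _ h => nomatch h⟩
  · rintro _ ⟨m, rfl⟩
    refine mem_comap.1 (gen3 (K := comap i1 _) (mem_comap.2 ?_) (mem_comap.2 ?_) m)
    · rw [← l1 sX, ← k ((sX, sX)⁻¹ * (sX, sX⁻¹)⁻¹) (sX, 1) (by decide +kernel), map_mul, map_inv, map_inv]
      exact mul_mem (inv_mem (mem_gen (by simp))) (inv_mem (mem_gen (by simp)))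
    · rw [← l1 sA, ← k ((E, E) * (sX * sA * sX⁻¹, E)) (sA, 1) (by decide +kernel), map_mul]
      exact mul_mem (mem_gen (by simp)) (mem_gen (by simp))
  · rintro _ ⟨m, rfl⟩
    refine mem_comap.1 (gen3 (K := comap i2 _) (mem_comap.2 ?_) (mem_comap.2 ?_) m)
    · rw [← l2 sX, ← k ((sX, sX)⁻¹ * (sX, sX⁻¹)) (1, sX) (by decide +kernel), map_mul, map_inv]
      exact mul_mem (inv_mem (mem_gen (by simp))) (mem_gen (by simp))
    · rw [← l2 sA, ← k ((sX * sA * sX⁻¹, E) * (sA, sA) * (E, E)) (1, sA) (by decide +kernel), map_mul, map_mul]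
      exact mul_mem (mul_mem (mem_gen (by simp)) (mem_gen (by simp))) (mem_gen (by simp))

theorem ut_of {z : G} (hz : orderOf z = 2) {H₁ H₂ : Subgroup (centralizer ({z} : Set G))}
    (hK : H₁ ⊔ H₂ = closure {x : centralizer ({z} : Set G) | Odd (orderOf x)}) (hn₁ : (H₁.subgroupOf (H₁ ⊔ H₂)).Normal)
    (hn₂ : (H₂.subgroupOf (H₁ ⊔ H₂)).Normal) (e₁ : H₁ ≃* S3) (e₂ : H₂ ≃* S3)
    (hmeet : (H₁ ⊓ H₂).map (Subgroup.subtype (centralizer ({z} : Set G))) = zpowers z) {Q : Subgroup (centralizer ({z} : Set G))}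
    [Q.Normal] (hQ : Q = (pCore 2 ↥(H₁ ⊔ H₂)).map (Subgroup.subtype (H₁ ⊔ H₂)))
    (hF : generalizedFittingSubgroup (centralizer ({z} : Set G)) = Q)
    (hnwc : ∃ g : G, (∃ hq : g * z * g⁻¹ ∈ centralizer ({z} : Set G), (⟨g * z * g⁻¹, hq⟩ : centralizer ({z} : Set G)) ∈ Q) ∧
      g * z * g⁻¹ ≠ z) (hH : Nat.card ↥(centralizer ({z} : Set G)) = 2 ^ 7 * 3 ^ 2)
    (hQQg : ∀ g : G, g * z * g⁻¹ ∈ Q.map (Subgroup.subtype (centralizer ({z} : Set G))) → g * z * g⁻¹ ≠ z →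
      Nat.card ↥((Q.map (Subgroup.subtype (centralizer ({z} : Set G)))) ⊓
        (Q.map (Subgroup.subtype (centralizer ({z} : Set G)))).map (MulAut.conj g).toMonoidHom) = 4) :
    ∃ u e t f w s y p, UT z u e t f w s y p := by
  let ι := Subgroup.subtype (centralizer ({z} : Set G))
  have hι : Function.Injective ι := subtype_injective _
  let i1 : S3 →* G := ι.comp (H₁.subtype.comp e₁.symm.toMonoidHom)
  let i2 : S3 →* G := ι.comp (H₂.subtype.comp e₂.symm.toMonoidHom)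
  have j1 : Function.Injective i1 := hι.comp (H₁.subtype_injective.comp e₁.symm.injective)
  have j2 : Function.Injective i2 := hι.comp (H₂.subtype_injective.comp e₂.symm.injective)
  have r1 : i1.range = H₁.map ι := by
    rw [MonoidHom.range_comp, MonoidHom.range_comp, MonoidHom.range_eq_top.2 e₁.symm.surjective, ← MonoidHom.range_eq_map, range_subtype]
  have r2 : i2.range = H₂.map ι := by
    rw [MonoidHom.range_comp, MonoidHom.range_comp, MonoidHom.range_eq_top.2 e₂.symm.surjective, ← MonoidHom.range_eq_map, range_subtype]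
  have z2 : z * z = 1 := by rw [← pow_two, ← hz, pow_orderOf_eq_one]
  have z1 : z ≠ 1 := fun e => by rw [e, orderOf_one] at hz; omega
  rw [map_inf _ _ _ hι, ← r1, ← r2] at hmeet
  have zz : ∀ {i : S3 →* G}, Function.Injective i → z ∈ i.range → i (-1) = z := fun {i} j ⟨m, e⟩ => by
    rw [← e, (by decide +kernel : ∀ c : S3, c * c = 1 → c ≠ 1 → c = -1) m (j (by rw [map_mul, e, z2, map_one]))
      fun e1 => z1 (by rw [← e, e1, map_one])]
  have z3 := zz j1 (hmeet.ge (mem_zpowers z)).1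
  have hc := comm3 (i2 := i2) j1 (fun m n e => ((mem_zp z2).1 (hmeet.le ⟨⟨m, rfl⟩, ⟨n, e.symm⟩⟩)).imp
      (fun e => j1 (e.trans (map_one _).symm)) fun e => j1 (e.trans z3.symm))
    (fun m n => (r1.ge ⟨_, hn₁.conj_mem ⟨_, mem_sup_left (e₁.symm m).2⟩ (e₁.symm m).2 ⟨_, mem_sup_right (e₂.symm n).2⟩, rfl⟩).imp
      fun _ => Eq.symm)
    (fun m n => (r2.ge ⟨_, hn₂.conj_mem ⟨_, mem_sup_right (e₂.symm n).2⟩ (e₂.symm n).2 ⟨_, mem_sup_left (e₁.symm m).2⟩, rfl⟩).imp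
      fun _ => Eq.symm)
  obtain ⟨u, e, f, s, y, p, hr, hg⟩ := exK hc ((zz j2 (hmeet.ge (mem_zpowers z)).2).trans z3.symm)
  rw [z3] at hr
  rw [z3, r1, r2, ← Subgroup.map_sup] at hg
  have F := fk_of hr z1
  have nK : (H₁ ⊔ H₂).Normal := hK ▸ ⟨fun n hn g => mem_comap.1 <| (Subgroup.closure_le (comap (MulAut.conj g).toMonoidHom _)).2
    (fun x hx => mem_comap.2 <| Subgroup.subset_closure (show Odd (orderOf (g * x * g⁻¹)) by rwa [Invol.orderOf_conj])) hn⟩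
  have eQ : Q.map ι = gen [z, u, e, f, s] := by
    refine le_antisymm ?_ (fun q hq => ?_)
    · rintro _ ⟨q, hq, rfl⟩
      obtain ⟨n, hn⟩ := isPGroup_iff_mem.1 (Core.isPGroup_pCoreOf (p := 2) (H₁ ⊔ H₂)) q (hQ ▸ hq)
      exact F.two (hg ▸ mem_map_of_mem ι (map_subtype_le _ (hQ ▸ hq))) (by rw [← map_pow, hn, map_one])
    · have kN : gen [z, u, e, f, s, y, p] ≤ 𝐍 (gen [z, u, e, f, s]) := gen_le.2 (by
        simp only [List.forall_mem_cons]
        exact ⟨le_normalizer (mem_gen (by simp)), le_normalizer (mem_gen (by simp)), le_normalizer (mem_gen (by simp)),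
          le_normalizer (mem_gen (by simp)), le_normalizer (mem_gen (by simp)),
          mem_normalizer_of_cj_le (by rintro _ ⟨q, hq, rfl⟩; exact (F.hQ q hq).1),
          mem_normalizer_of_cj_le (by rintro _ ⟨q, hq, rfl⟩; exact (F.hQ q hq).2.1), fun _ h => nomatch h⟩)
      exact ⟨⟨q, mem_centralizer_singleton_iff.2 (F.hK q (F.QK hq)).1⟩, hQ ▸ Core.le_pCoreOf (K := comap ι (gen [z, u, e, f, s]))
        (fun x hx => (mem_map_iff_mem hι).1 (hg ▸ F.QK hx))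
        (fun x hx => le_normalizer_comap ι (kN (hg ▸ mem_map_of_mem ι hx))) (IsPGroup.of_card (n := 5) F.cQ).comap_subtype hq, rfl⟩
  have nm : ∀ (N : Subgroup (centralizer ({z} : Set G))) [N.Normal] (g), g * z = z * g → ∀ k ∈ N.map ι, g * k * g⁻¹ ∈ N.map ι := by
    rintro N hN g hg _ ⟨k, hk, rfl⟩
    exact ⟨_, hN.conj_mem k hk ⟨g, mem_centralizer_singleton_iff.2 hg⟩, rfl⟩
  obtain ⟨t, w, h⟩ := Hy.ut (z := z) (u := u) (e := e) (f := f) (s := s) (y := y) (p := p) ⟨hr, z1, hg ▸ nm _, eQ ▸ nm _,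
    fun g h1 h2 => eQ ▸ ⟨⟨g, mem_centralizer_singleton_iff.2 h1⟩, hF ▸ Layer.centralizer_fstar_le fun x hx =>
      Subtype.ext (h2 _ (eQ ▸ mem_map_of_mem ι (hF ▸ hx))), rfl⟩, hH,
    let ⟨g, ⟨_, h1⟩, h2⟩ := hnwc; ⟨g, eQ ▸ mem_map_of_mem ι h1, h2⟩, eQ ▸ hQQg⟩
  exact ⟨u, e, t, f, w, s, y, p, h⟩

end Cfsg.Lib.U43
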