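import Cfsg.Agent.Lib.U43.FH

/-! Groups of type `U₄(3)`: the element `m` of order three normalising `⟨z, u⟩`. -/

set_option autoImplicit false
set_option maxRecDepth 100000
set_option linter.unusedSectionVars false

namespace Cfsg.Lib.U43

open Cfsg.Lib.FO Subgroup Cfsg.Lib.Amalg Cfsg.Lib.Golay Cfsg.Lib.Psp43
open Cfsg.Lib.Comp (IvOK Rels ev)

variable {G : Type*} [Group G] [Finite G]

theorem cjm (g a b : G) : g * (a * b) * g⁻¹ = g * a * g⁻¹ * (g * b * g⁻¹) := conj_mul.symm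
theorem cjc2 {g h a b c : G} (h1 : h * a * h⁻¹ = b) (h2 : g * b * g⁻¹ = c) : g * h * a * (g * h)⁻¹ = c := by
  rw [← h2, ← h1]; group
theorem cji {g a b : G} (h : g * a * g⁻¹ = b) : g⁻¹ * b * g⁻¹⁻¹ = a := by rw [← h]; group
theorem cj_of_cm {g a : G} (h : g * a = a * g) : g * a * g⁻¹ = a := mul_inv_eq_iff_eq_mul.2 h
theorem cm_of_cj {g a : G} (h : g * a * g⁻¹ = a) : g * a = a * g := mul_inv_eq_iff_eq_mul.1 h
theorem cm_cj (g : G) {a b : G} (h : a * b = b * a) : g * a * g⁻¹ * (g * b * g⁻¹) = g * b * g⁻¹ * (g * a * g⁻¹) := by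
  rw [conj_mul, conj_mul, h]

/-- four commuting involutions -/
structure EA (a c d f : G) : Prop where
  a2 : a * a = 1
  c2 : c * c = 1
  d2 : d * d = 1
  f2 : f * f = 1
  ac : a * c = c * a
  ad : a * d = d * a
  af : a * f = f * a
  cd : c * d = d * c
  cf : c * f = f * c
  df : d * f = f * d

theorem pw_cm {x y : G} (h : x * y = y * x) (b b' : Bool) : Commute (pw x b) (pw y b') := by
  cases b <;> cases b'
  exacts [Commute.refl _, Commute.one_left _, Commute.one_right _, h]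

theorem Act.comp {ι : ℕ → G} {g h : G} {T T' : ℕ → ℕ} (a : Act ι g T) (b : Act ι h T') : Act ι (g * h) (fun k => T (T' k)) :=
  fun k hk => ⟨(a _ (b k hk).1).1, cjc2 (b k hk).2 (a _ (b k hk).1).2⟩

theorem Act.pow {ι : ℕ → G} {g : G} {T : ℕ → ℕ} (a : Act ι g T) (n : ℕ) : Act ι (g ^ n) T^[n] := by
  induction n with
  | zero => exact fun k hk => ⟨hk, by simp⟩
  | succ n ih => rw [pow_succ]; exact Act.comp (T := T^[n]) (T' := T) ih a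

namespace EA
variable {a c d f : G} (h : EA a c d f)
include h

theorem xor : ∀ j < 16, ∀ k < 16, io a c d f (Nat.xor j k) = io a c d f j * io a c d f k := by
  intro j _ k _
  have e : ∀ i, (Nat.xor j k).testBit i = (j.testBit i ^^ k.testBit i) := Nat.testBit_xor j k
  unfold io
  rw [e, e, e, e, pw_xor h.a2, pw_xor h.c2, pw_xor h.d2, pw_xor h.f2, (pw_cm h.ac _ _).mul_mul_mul_comm,
    (pw_cm h.df _ _).mul_mul_mul_comm, (((pw_cm h.ad _ _).mul_right (pw_cm h.af _ _)).mul_left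
      ((pw_cm h.cd _ _).mul_right (pw_cm h.cf _ _))).mul_mul_mul_comm]

theorem sq {k : ℕ} (hk : k < 16) : io a c d f k * io a c d f k = 1 := by
  rw [← h.xor k hk k hk, show Nat.xor k k = 0 from Nat.xor_self k, io0]

theorem surj {e : G} (he : e ∈ gen [a, c, d, f]) : ∃ k < 16, e = io a c d f k := by
  induction he using closure_induction with
  | mem x hx =>
    obtain ⟨k, hk, e⟩ := X.io (show X a c d f x by simpa [X] using hx)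
    exact ⟨k, by simp at hk; omega, e⟩
  | one => exact ⟨0, by norm_num, io0.symm⟩
  | mul x y _ _ hx hy =>
    obtain ⟨j, hj, rfl⟩ := hx
    obtain ⟨k, hk, rfl⟩ := hy
    exact ⟨_, xor_lt hj hk, (h.xor j hj k hk).symm⟩
  | inv x hx ih =>
    obtain ⟨k, hk, rfl⟩ := ih
    exact ⟨k, hk, inv_eq_of_mul_eq_one_left (h.sq hk)⟩

theorem act {n : G} (p q r s : ℕ) (hl : p < 16 ∧ q < 16 ∧ r < 16 ∧ s < 16) (h1 : n * a * n⁻¹ = io a c d f p)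
    (h2 : n * c * n⁻¹ = io a c d f q) (h4 : n * d * n⁻¹ = io a c d f r) (h8 : n * f * n⁻¹ = io a c d f s) :
    Act (io a c d f) n (lin p q r s) :=
  act_lin h.xor hl.1 hl.2.1 hl.2.2.1 hl.2.2.2 (by rwa [io1]) (by rwa [io2]) (by rwa [io4]) (by rwa [io8])

omit h in
theorem triv {g : G} {T : ℕ → ℕ} (hg : Act (io a c d f) g T) (hT : T 1 = 1 ∧ T 2 = 2 ∧ T 4 = 4 ∧ T 8 = 8) :
    g * a = a * g ∧ g * c = c * g ∧ g * d = d * g ∧ g * f = f * g := by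
  have h1 := (hg 1 (by norm_num)).2
  have h2 := (hg 2 (by norm_num)).2
  have h4 := (hg 4 (by norm_num)).2
  have h8 := (hg 8 (by norm_num)).2
  rw [hT.1, io1] at h1
  rw [hT.2.1, io2] at h2
  rw [hT.2.2.1, io4] at h4
  rw [hT.2.2.2, io8] at h8
  exact ⟨cm_of_cj h1, cm_of_cj h2, cm_of_cj h4, cm_of_cj h8⟩

variable (hC : ∀ g, g * a = a * g → g * c = c * g → g * d = d * g → g * f = f * g → g ∈ gen [a, c, d, f])
include hC

theorem pow8 {g : G} {T : ℕ → ℕ} (hg : Act (io a c d f) g T) (hT : T^[4] 1 = 1 ∧ T^[4] 2 = 2 ∧ T^[4] 4 = 4 ∧ T^[4] 8 = 8) :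
    g ^ 8 = 1 := by
  obtain ⟨h1, h2, h3, h4⟩ := triv (Act.pow hg 4) hT
  obtain ⟨k, hk, e⟩ := h.surj (hC _ h1 h2 h3 h4)
  rw [show 8 = 4 + 4 from rfl, pow_add, e, h.sq hk]

theorem pow5 {g : G} {T : ℕ → ℕ} (hg : Act (io a c d f) g T) (hT : T^[5] 1 = 1 ∧ T^[5] 2 = 2 ∧ T^[5] 4 = 4 ∧ T^[5] 8 = 8)
    (h0 : ∀ k < 16, Nat.xor (Nat.xor (Nat.xor (Nat.xor k (T k)) (T^[2] k)) (T^[3] k)) (T^[4] k) = 0) : g ^ 5 = 1 := by
  obtain ⟨h1, h2, h3, h4⟩ := triv (Act.pow hg 5) hT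
  obtain ⟨k, hk, e⟩ := h.surj (hC _ h1 h2 h3 h4)
  have e1 : ∀ n, T^[n] k < 16 ∧ io a c d f (T^[n] k) = io a c d f k := fun n => ⟨(Act.pow hg n k hk).1, by
    rw [← (Act.pow hg n k hk).2, ← e]; group⟩
  have e2 := congrArg (io a c d f) (h0 k hk)
  have l0 : T k < 16 := (e1 1).1
  have l1 := xor_lt hk l0
  have l2 := xor_lt l1 (e1 2).1
  rw [h.xor _ (xor_lt l2 (e1 3).1) _ (e1 4).1, h.xor _ l2 _ (e1 3).1, h.xor _ l1 _ (e1 2).1, h.xor _ hk _ l0, (e1 2).2,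
    (e1 3).2, (e1 4).2, show io a c d f (T k) = _ from (e1 1).2, h.sq hk, one_mul, h.sq hk, one_mul, io0] at e2
  rw [e, e2]

end EA

/-- the relations of the centraliser -/
structure Hc (z u e t f w s y p : G) : Prop where
  rel : Rels (gH z u e t f w s y p) Comp.U43h.R
  z1 : z ≠ 1

/-- the relations for `m` -/
structure Mr (z u e t f w s m : G) : Prop where
  m3 : m ^ 3 = 1
  sm : s * m * s * m = 1
  mz : m * z * m⁻¹ = u
  mu : m * u * m⁻¹ = u * z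
  me : m * e * m⁻¹ = t
  mt : m * t * m⁻¹ = t * e
  mf : m * f * m⁻¹ = w * f
  mw : m * w * m⁻¹ = f

variable {z u e t f w s y p m : G}

theorem Hc.fh (h : Hc z u e t f w s y p) : FH z u e t f w s y p := let ⟨_, h1, h2⟩ := embH h.rel h.z1; FH_of h1 h2

theorem Hc.eq (h : Hc z u e t f w s y p) (a b : Tm) (hb : Nat.beq (a.B 48 gsH []) (b.B 48 gsH []) = true) :
    a.ev (gH z u e t f w s y p) [] = b.ev (gH z u e t f w s y p) [] := let ⟨_, _, h2⟩ := embH h.rel h.z1; eq_tm h2 a b hb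

def ioT (a c d f : Tm) (k : ℕ) : Tm :=
  cond (k.testBit 0) a 1 * cond (k.testBit 1) c 1 * (cond (k.testBit 2) d 1 * cond (k.testBit 3) f 1)

theorem ev_ioT (γ : ℕ → G) (a c d f : Tm) (k : ℕ) :
    (ioT a c d f k).ev γ [] = io (a.ev γ []) (c.ev γ []) (d.ev γ []) (f.ev γ []) k := by
  unfold ioT io pw
  cases k.testBit 0 <;> cases k.testBit 1 <;> cases k.testBit 2 <;> cases k.testBit 3 <;> rfl

theorem FH.eaA (h : FH z u e t f w s y p) : EA z u e t := ⟨h.z2, h.u2, h.e2, h.t2, h.zu, h.ze, h.zt, h.ue, h.ut, h.et⟩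
theorem FH.eaB (h : FH z u e t f w s y p) : EA z u f w := ⟨h.z2, h.u2, h.f2, h.w2, h.zu, h.zf, h.zw, h.uf, h.uw, h.fw⟩

theorem Hc.act (h : Hc z u e t f w s y p) (n c d : Tm) (q r k : ℕ) (hl : q < 16 ∧ r < 16 ∧ k < 16)
    (ea : EA z u (c.ev (gH z u e t f w s y p) []) (d.ev (gH z u e t f w s y p) []))
    (hb : ∀ x ∈ [(Tm.c 1, 1), (.c 2, q), (c, r), (d, k)],
      Nat.beq ((n.cj x.1).B 48 gsH []) ((ioT (.c 1) (.c 2) c d x.2).B 48 gsH []) = true) :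
    Act (io z u (c.ev (gH z u e t f w s y p) []) (d.ev (gH z u e t f w s y p) [])) (n.ev (gH z u e t f w s y p) []) (lin 1 q r k) := by
  simp only [List.forall_mem_cons] at hb
  exact ea.act 1 q r k ⟨by norm_num, hl⟩ ((h.eq _ _ hb.1).trans (ev_ioT ..)) ((h.eq _ _ hb.2.1).trans (ev_ioT ..))
    ((h.eq _ _ hb.2.2.1).trans (ev_ioT ..)) ((h.eq _ _ hb.2.2.2.1).trans (ev_ioT ..))

theorem Pv.cj (mz : m * z * m⁻¹ = u) (mu : m * u * m⁻¹ = u * z) (h0 : FH z u e t f w s y p) {a b : G} (h : Pv z u a b) :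
    m * a * m⁻¹ = b := by
  rcases h with ⟨h1, h2⟩ | ⟨h1, h2⟩ | ⟨h1, h2⟩ | ⟨h1, h2⟩ <;> rw [h1, h2]
  · simp
  · exact mz
  · exact mu
  · rw [cjm, mz, mu, ← h0.zu, mul_assoc, h0.u2, mul_one]

set_option hygiene false in
local notation "𝐇" => gen [t, w, s, y, p]
set_option hygiene false in
local notation "𝐐" => gen [z, u, e, f, s]
set_option hygiene false in
local notation "𝐓" => gen [z, u, e, t, f, w]
set_option hygiene false in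
local notation "𝐕" => gen [z, u]

theorem FH.nQ (h : FH z u e t f w s y p) {k : G} (hk : k ∈ 𝐇) {q : G} (hq : q ∈ 𝐐) : k * q * k⁻¹ ∈ 𝐐 := by
  have : 𝐇 ≤ 𝐍 𝐐 := gen_le.2 fun x hx => mem_normalizer_of_cj_le (by
    rintro _ ⟨q, hq, rfl⟩
    obtain ⟨h1, h2, h3, h4, h5, -⟩ := h.hQ q hq
    simp only [List.mem_cons, List.not_mem_nil, or_false] at hx
    rcases hx with rfl | rfl | rfl | rfl | rfl
    exacts [h1, h2, h3, h4, h5])
  exact (mem_normalizer_iff.1 (this hk) q).1 hq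

theorem FH.QH (h : FH z u e t f w s y p) {q : G} (hq : q ∈ 𝐐) : q ∈ 𝐇 := h.hS _ (h.hQ q hq).2.2.2.2.2
theorem FH.TH (h : FH z u e t f w s y p) {q : G} (hq : q ∈ 𝐓) : q ∈ 𝐇 := h.hS _ (h.hT q hq).2.2.1
theorem FH.cz (h : FH z u e t f w s y p) {k : G} (hk : k ∈ 𝐇) : k * z * k⁻¹ = z := cj_of_cm (h.hH k hk).1

/-- groups of type `U₄(3)` -/
structure UT (z u e t f w s y p : G) : Prop extends Hc z u e t f w s y p where
  hC : ∀ g, g * z = z * g → g ∈ gen [t, w, s, y, p]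
  fus : ∃ g, g * z * g⁻¹ = u ∧ ∀ q ∈ gen [z, u, e, f, s], g * q * g⁻¹ ∈ gen [z, u, e, f, s] → g * q * g⁻¹ ∈ gen [z, u]

structure Mx (z u e f s m : G) : Prop where
  m3 : m ^ 3 = 1
  mz : m * z * m⁻¹ = u
  mu : m * u * m⁻¹ = u * z
  mQ : ∀ q ∈ gen [z, u, e, f, s], m * q * m⁻¹ ∈ gen [z, u, e, f, s] → m * q * m⁻¹ ∈ gen [z, u]

theorem three (h : m ^ 3 = 1) (a : G) : m * (m * (m * a * m⁻¹) * m⁻¹) * m⁻¹ = a := by
  calc _ = m ^ 3 * a * (m ^ 3)⁻¹ := by simp only [pow_three]; group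
    _ = a := by rw [h]; simp

namespace UT
variable (h : UT z u e t f w s y p)
include h

theorem mT {k : G} (h1 : k * z = z * k) (h2 : k * u = u * k) : k ∈ 𝐓 := ((h.fh.hH k (h.hC k h1)).2.1 h2).1

theorem swap : ∃ g, g * z * g⁻¹ = u ∧ g * u * g⁻¹ = z ∧ ∀ q ∈ 𝐐, g * q * g⁻¹ ∈ 𝐐 → g * q * g⁻¹ ∈ 𝐕 := by
  have F := h.fh
  obtain ⟨g, g1, g2⟩ := h.fus
  have hk : g⁻¹ * z * g⁻¹⁻¹ ∈ 𝐇 := h.hC _ (by nth_rw 2 3 [← cji g1]; exact cm_cj _ F.zu)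
  have fin : ∀ c ∈ 𝐇, g⁻¹ * z * g⁻¹⁻¹ = c * u * c⁻¹ →
      ∃ g, g * z * g⁻¹ = u ∧ g * u * g⁻¹ = z ∧ ∀ q ∈ 𝐐, g * q * g⁻¹ ∈ 𝐐 → g * q * g⁻¹ ∈ 𝐕 := fun c hc e1 =>
    ⟨g * c, cjc2 (F.cz hc) g1, cjc2 e1.symm (by group), fun q hq => by
      rw [cjc2 rfl rfl]; exact g2 _ (F.nQ hc hq)⟩
  have no : ∀ c ∈ 𝐐, ∀ x ∈ 𝐇, x ≠ 1 → x * x * x = 1 → c⁻¹ * (g⁻¹ * z * g⁻¹⁻¹) * c * x ≠ x * (c⁻¹ * (g⁻¹ * z * g⁻¹⁻¹) * c) :=
    fun c hc x hx x1 x3 e1 => by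
    have h1 := cm_cj (g * c) e1
    have h2 := cm_cj (g * c) (F.hH x hx).1
    rw [show g * c * (c⁻¹ * (g⁻¹ * z * g⁻¹⁻¹) * c) * (g * c)⁻¹ = z by group] at h1
    rw [cjc2 (F.cz (F.QH hc)) g1] at h2
    have h3 := (F.hT _ (h.mT h1.symm h2)).1
    rw [conj_mul, conj_mul, ← mul_assoc (x * x), x3, one_mul] at h3
    exact x1 (conj_eq_one_iff.1 h3)
  rcases ((F.hH _ hk).2.2.2.2 (by rw [conj_mul, F.z2]; simp)).2 with e1 | e1 | ⟨-, d, hd, e1 | e1⟩ | ⟨c, hc, e1 | e1⟩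
  · exact (F.z1 (conj_eq_one_iff.1 e1)).elim
  · exact (F.uz (by rw [← g1]; nth_rw 1 [← e1]; group)).elim
  · exact fin d (F.hD d hd).2.2.2.1 e1
  · exact fin (d * s) (mul_mem (F.hD d hd).2.2.2.1 (mem_gen (by simp))) (e1.trans (cjc2 F.sus rfl).symm)
  · exact (no c hc y (mem_gen (by simp)) F.y1 F.y3 e1).elim
  · exact (no c hc p (mem_gen (by simp)) F.p1 F.p3 e1).elim

theorem exMx : ∃ m, Mx z u e f s m := by
  have F := h.fh
  obtain ⟨g, g1, g2, g3⟩ := h.swap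
  have hs : s ∈ 𝐇 := mem_gen (by simp)
  have a1 : g * s * z * (g * s)⁻¹ = u := cjc2 (F.cz hs) g1
  have a2 : g * s * u * (g * s)⁻¹ = u * z := cjc2 F.sus (by rw [cjm, g1, g2, F.zu])
  have a3 := Pv.cj a1 a2 F (.inr (.inr (.inr ⟨rfl, rfl⟩)))
  have b1 := cjc2 a1 (cjc2 a2 a3)
  have b2 := cjc2 a2 (cjc2 a3 a1)
  have hk := h.mT (cm_of_cj b1) (cm_of_cj b2)
  refine ⟨g * s * (g * s * (g * s) * (g * s)), ?_, cjc2 b1 a1, cjc2 b2 a2, fun q hq => ?_⟩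
  · rw [← (F.hT _ hk).1]; generalize g * s = a; simp only [pow_three, mul_assoc]
  · rw [mul_assoc g s, cjc2 rfl rfl]; exact g3 _ (F.nQ (mul_mem hs (F.TH hk)) hq)

variable (hm : Mx z u e f s m)
include hm

theorem nT {k : G} (hk : k ∈ 𝐓) : m * k * m⁻¹ ∈ 𝐓 := by
  have F := h.fh
  refine h.mT ?_ (hm.mz ▸ cm_cj m (F.hH k (F.TH hk)).1)
  rw [← Pv.cj hm.mz hm.mu F (.inr (.inr (.inr ⟨rfl, rfl⟩)))]
  exact cm_cj m ((F.hV _ (mul_mem (mem_gen (by simp)) (mem_gen (by simp)))).2.2.2.1 k hk)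

theorem nV {v : G} (hv : v ∈ 𝐕) : m * v * m⁻¹ ∈ 𝐕 :=
  let ⟨_, hx, e⟩ := (h.fh.hV v hv).2.2.2.2; (e.cj hm.mz hm.mu h.fh).symm ▸ hx

theorem conj {c : G} (hc : c ∈ 𝐓) : Mx z u e f s (c * m * c⁻¹) := by
  have F := h.fh
  have k : ∀ v ∈ 𝐕, c * v * c⁻¹ = v := fun v hv => cj_of_cm ((F.hV v hv).2.2.2.1 c hc)
  have hz : z ∈ 𝐕 := mem_gen (by simp)
  have hu : u ∈ 𝐕 := mem_gen (by simp)
  refine ⟨by rw [conj_pow, hm.m3]; simp, cjc2 (cji (k z hz)) (cjc2 hm.mz (k u hu)),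
    cjc2 (cji (k u hu)) (cjc2 hm.mu (k _ (mul_mem hu hz))), fun q hq hq' => ?_⟩
  rw [cjc2 rfl (cjc2 rfl rfl)] at hq' ⊢
  have h1 := F.nQ (inv_mem (F.TH hc)) hq'
  rw [cji rfl] at h1
  have h2 := hm.mQ _ (F.nQ (inv_mem (F.TH hc)) hq) h1
  rwa [k _ h2]

theorem stepC {a b : G} (hb : b ∈ 𝐓) (ab : a * b = b * a) (e1 : m * a * m⁻¹ = b)
    (H : ∀ c ∈ 𝐓, c * b = b * c → ∃ v ∈ 𝐕, ∃ x ∈ 𝐕, Pv z u v x ∧ (c = v ∧ x ≠ a ∨ c = a * v ∧ b * x ≠ a ∨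
      c = b * v ∧ c * x ≠ a ∨ c = b * a * v ∧ (c * b * x = a → c = b * a))) : m * b * m⁻¹ = b * a := by
  have e2 : m * (m * b * m⁻¹) * m⁻¹ = a := by rw [← e1, three hm.m3]
  obtain ⟨v, -, x, -, e3, e4⟩ := H _ (h.nT hm hb) (by nth_rw 2 3 [← e1]; exact (cm_cj m ab).symm)
  have e5 := e3.cj hm.mz hm.mu h.fh
  rcases e4 with ⟨e4, n⟩ | ⟨e4, n⟩ | ⟨e4, n⟩ | ⟨e4, n⟩
  · exact (n (by rw [← e5, ← e4, e2])).elim
  · exact (n (by rw [← e2, e4, cjm, e1, e5])).elim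
  · exact (n (by rw [← e2]; nth_rw 2 [e4]; rw [cjm, e5])).elim
  · exact n (by nth_rw 1 [← e2]; nth_rw 2 [e4]; rw [cjm, cjm, e5, e1])

omit hm in
theorem exM1 : ∃ m, Mx z u e f s m ∧ m * e * m⁻¹ = t ∧ m * f * m⁻¹ = w * f := by
  have F := h.fh
  obtain ⟨m, hm⟩ := h.exMx
  have he : e ∈ 𝐓 := mem_gen (by simp)
  have hf : f ∈ 𝐓 := mem_gen (by simp)
  have nq : ∀ a ∈ 𝐐, a ∉ 𝐕 → m * a * m⁻¹ ∉ 𝐐 := fun a ha hn hq =>
    hn (three hm.m3 a ▸ h.nV hm (h.nV hm (hm.mQ a ha hq)))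
  rcases F.fa _ (h.nT hm he) (by rw [conj_mul, F.e2]; simp) (nq e (mem_gen (by simp)) F.eV) _ (h.nT hm hf)
    (nq f (mem_gen (by simp)) F.fV) (by rw [conj_mul, F.f2]; simp) (by rw [conj_mul, conj_mul, F.ef, hm.mz]) with
    ⟨h1, h2, h3⟩ | ⟨c, hc, x, -, h1, h2, x', -, h3, h4⟩
  · have h4 := cm_cj m (cm_cj m h2)
    rw [three hm.m3] at h4
    exact (F.eV (three hm.m3 e ▸ h.nV hm (h3 _ (h.nT hm (h.nT hm he)) (cm_cj m h1) h4.symm))).elim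
  · refine ⟨_, h.conj hm hc, cjc2 (b := e * (e * (c⁻¹ * e * c))) ?_ (cjc2 ?_ h2),
      cjc2 (b := f * (f * (c⁻¹ * f * c))) ?_ (cjc2 ?_ h4)⟩
    · rw [← mul_assoc e, F.e2, one_mul, inv_inv]
    · rw [cjm, h1.cj hm.mz hm.mu F]
    · rw [← mul_assoc f, F.f2, one_mul, inv_inv]
    · rw [cjm, h3.cj hm.mz hm.mu F]

end UT

theorem io12 {a c d f : G} : io a c d f 12 = d * f := show 1 * 1 * (d * f) = d * f by simp

theorem actA (F : FH z u e t f w s y p) (mz : m * z * m⁻¹ = u) (mu : m * u * m⁻¹ = u * z) (me : m * e * m⁻¹ = t)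
    (mt : m * t * m⁻¹ = t * e) : Act (io z u e t) m (lin 2 3 8 12) :=
  F.eaA.act 2 3 8 12 (by norm_num) (by rwa [io2]) (by rwa [io3, F.zu]) (by rwa [io8]) (by rwa [io12, F.et])

theorem actB (F : FH z u e t f w s y p) (mz : m * z * m⁻¹ = u) (mu : m * u * m⁻¹ = u * z) (mf : m * f * m⁻¹ = w * f)
    (mw : m * w * m⁻¹ = f) : Act (io z u f w) m (lin 2 3 12 4) :=
  F.eaB.act 2 3 12 4 (by norm_num) (by rwa [io2]) (by rwa [io3, F.zu]) (by rwa [io12, F.fw]) (by rwa [io4])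

theorem UT.exM (h : UT z u e t f w s y p) : ∃ m, Mr z u e t f w s m := by
  have F := h.fh
  obtain ⟨m, hm, me, mf⟩ := h.exM1
  have mt := h.stepC hm (mem_gen (by simp)) F.et me F.fc
  have mw : m * w * m⁻¹ = f := by
    have := h.stepC hm (mul_mem (mem_gen (by simp)) (mem_gen (by simp))) (by rw [← mul_assoc, F.fw]) mf F.fd
    rw [cjm, mf, mul_assoc w f f, F.f2, mul_one, ← F.fw, ← mul_assoc, mul_eq_right] at this
    exact (eq_inv_of_mul_eq_one_left this).trans (inv_eq_of_mul_eq_one_left F.f2)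
  have sA : Act (io z u e t) s (lin 1 3 5 15) := h.act (.c 7) (.c 3) (.c 4) 3 5 15 (by norm_num) F.eaA (by decide +kernel)
  have sB : Act (io z u f w) s (lin 1 3 4 12) := h.act (.c 7) (.c 5) (.c 6) 3 4 12 (by norm_num) F.eaB (by decide +kernel)
  have mA := actA F hm.mz hm.mu me mt
  have mB := actB F hm.mz hm.mu mf mw
  obtain ⟨a1, a2, a3, a4⟩ := EA.triv (Act.comp (Act.comp (Act.comp sA mA) sA) mA) (by decide +kernel)
  obtain ⟨-, -, a5, a6⟩ := EA.triv (Act.comp (Act.comp (Act.comp sB mB) sB) mB) (by decide +kernel)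
  obtain ⟨x, -, e1, e2⟩ := (F.hT _ (h.mT a1 a2)).2.2.2 a3 a4 a5 a6
  rcases e2 (by rw [← e1.cj hm.mz hm.mu F, ← mul_assoc, ← mul_assoc, ← mul_assoc, F.s2]; group) with e3 | e3
  · exact ⟨m, hm.m3, e3, hm.mz, hm.mu, me, mt, mf, mw⟩
  have k : ∀ {a b}, m * a * m⁻¹ = b → b ∈ 𝐓 → z * m * a * (z * m)⁻¹ = b := fun e hb =>
    cjc2 e (cj_of_cm (F.hH _ (F.TH hb)).1.symm)
  have e4 := Pv.cj hm.mz hm.mu F (.inr (.inr (.inr ⟨rfl, rfl⟩)))
  have g : ∀ {x}, x ∈ [z, u, e, t, f, w] → x ∈ 𝐓 := mem_gen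
  refine ⟨z * m, ?_, ?_, k hm.mz (g (by simp)), k hm.mu (mul_mem (g (by simp)) (g (by simp))), k me (g (by simp)),
    k mt (mul_mem (g (by simp)) (g (by simp))), k mf (mul_mem (g (by simp)) (g (by simp))), k mw (g (by simp))⟩
  · calc _ = z * (m * z * m⁻¹) * (m * (m * z * m⁻¹) * m⁻¹) * m ^ 3 := by simp only [pow_three]; group
      _ = 1 := by rw [hm.mz, hm.mu, hm.m3, mul_one, mul_assoc, ← mul_assoc u, F.u2, one_mul, F.z2]
  · calc _ = s * z * s⁻¹ * (s * m * s * m) * (m⁻¹ * z * m⁻¹⁻¹) := by group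
      _ = 1 := by rw [cji e4, e3, F.cz (mem_gen (by simp)), mul_assoc, ← mul_assoc u, F.u2, one_mul, F.z2]

end Cfsg.Lib.U43
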