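import Cfsg.Agent.Lib.Psp43.Emb
import Cfsg.Agent.Lib.Comp.U43h.Main
import Cfsg.Agent.Lib.Comp.U43g.Main
import Cfsg.Agent.Lib.Comp.U43x.Mat

/-! Permutation models of `U₄(3)`, of its involution centraliser and of `2⁴:A₆`. -/

set_option autoImplicit false
set_option maxRecDepth 100000

namespace Cfsg.Lib.U43

open Cfsg.Lib.FO Subgroup Cfsg.Lib.Golay Cfsg.Lib.Golay.Coding Cfsg.Lib.MatB Cfsg.Lib.Psp43
open Cfsg.Lib.Comp (IvOK Rels ev cl gp mem_cl ev_single hom_of_ord)

universe u

theorem rels_tm {G α : Type*} [Group G] {c : Coding α} {H : Subgroup (Equiv.Perm α)} {φ : H →* G}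
    {gs : List ℕ} {γ : ℕ → G} (hC : ∀ i, R c φ (getL gs (idN c.n) i) (γ i)) (ts : List Tm) {iv : ℕ → ℕ}
    {Rl : List (List ℕ × ℕ)} (h : frc (mapL (Tm.B c.n gs []) ts) (fun l => presB c.n l iv Rl) = true) :
    IvOK (nt 1 (ts.map (Tm.ev γ []))) iv ∧ Rels (nt 1 (ts.map (Tm.ev γ []))) Rl := by
  rw [frc_eq] at h
  have h1 : List.Forall₂ (R c φ) (mapL (Tm.B c.n gs []) ts) (ts.map (Tm.ev γ [])) := by
    rw [mapL_eq, List.forall₂_map_left_iff, List.forall₂_map_right_iff, List.forall₂_same]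
    exact fun t _ => t.sound hC .nil
  have h2 : ∀ g ∈ mapL (Tm.B c.n gs []) ts, c.InH H g := fun g hg => by
    rw [mapL_eq] at hg
    obtain ⟨t, -, rfl⟩ := List.mem_map.1 hg
    exact (t.sound hC .nil).1
  obtain ⟨p1, p2⟩ := presB_sound h2 h
  have e : nt 1 (ts.map (Tm.ev γ [])) = fun i => φ (gl h2 i) := funext fun i => (R.nt h1 i).2.symm
  exact e ▸ ⟨p1.map φ, p2.map φ⟩

theorem eq_tm {G α : Type*} [Group G] {c : Coding α} {H : Subgroup (Equiv.Perm α)} {φ : H →* G}
    {gs : List ℕ} {γ : ℕ → G} (hC : ∀ i, R c φ (getL gs (idN c.n) i) (γ i)) (a b : Tm)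
    (h : Nat.beq (a.B c.n gs []) (b.B c.n gs []) = true) : a.ev γ [] = b.ev γ [] := by
  obtain ⟨h1, e1⟩ := a.sound hC .nil
  obtain ⟨h2, e2⟩ := b.sound hC .nil
  rw [← e1, ← e2]; congr 2; exact congrArg c.dec (beq_iff.1 h)

theorem rels_congr {G : Type*} [Group G] {γ δ : ℕ → G} {Rl : List (List ℕ × ℕ)} (σ : ℕ → ℕ) (h : Rels γ Rl)
    (e : ∀ r ∈ Rl, ∀ x ∈ r.1, δ (σ x) = γ x) : Rels δ (Rl.map fun r => (r.1.map σ, r.2)) := fun r hr => by
  obtain ⟨r, hr', rfl⟩ := List.mem_map.1 hr
  rw [← h r hr']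
  congr 1
  simp only [ev, List.map_map]
  exact congrArg List.prod (List.map_congr_left (e r hr'))

noncomputable abbrev c48 : Coding (Fin 48) := finCoding 48 (by norm_num)
noncomputable abbrev c16 : Coding (Fin 16) := finCoding 16 (by norm_num)
noncomputable abbrev c112 : Coding (Fin 112) := finCoding 112 (by norm_num)

def gsH : List ℕ := [nat_lit 0x2f2e2d2c2b2a292827262524232221201f1e1d1c1b1a191817161514131211100f0e0d0c0b0a09080706050403020100,
  nat_lit 0x2c2d2e2f28292a2b24252627202122231c1d1e1f18191a1b14151617101112130c0d0e0f08090a0b0405060700010203,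
  nat_lit 0x202122232425262728292a2b2c2d2e2f101112131415161718191a1b1c1d1e1f0c0d0e0f08090a0b0706050403020100,
  nat_lit 0x18191a1b1c1d1e1f101112131415161728292a2b2c2d2e2f20212223242526270c0d0e0f0b0a09080405060703020100,
  nat_lit 0x29282b2a2d2c2f2e212023222524272619181b1a1d1c1f1e11101312151417160d0c0f0e09080b0a0504070602030001,
  nat_lit 0x2021222328292a2b242526272c2d2e2f1f1e1d1c171615141b1a1918131211100b0a09080f0e0d0c0302010007060504,
  nat_lit 0x2022212324262527282a292b2c2e2d2f1f1d1e1c1b191a1817151614131112100b090a080f0d0e0c0705060403010200,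
  nat_lit 0x141516172b2a2928242526271b1a19181c1d1e1f232221202c2d2e2f1312111003020100070605040b0a09080f0e0d0c,
  nat_lit 0x20212223242526271f1e1d1c1b1a191828292a2b2c2d2e2f17161514131211100b0a0908070605040f0e0d0c03020100,
  nat_lit 0x18191a1b1c1d1e1f28292a2b2c2d2e2f27262524232221201716151413121110070605040f0e0d0c0b0a090803020100,
  nat_lit 0xc0d0e0f2f2e2d2c232221200b0a09081b1a191807060504000102031415161728292a2b272625241f1e1d1c13121110,
  nat_lit 0x2b2a29280c0d0e0f0b0a090827262524070605041f1e1d1c10111213030201002c2d2e2f232221201b1a191814151617]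

def gsM : List ℕ := [nat_lit 0xf0e0d0c0b0a09080706050403020100,
  nat_lit 0xe0f0c0d0a0b08090607040502030001,
  nat_lit 0x8090a0b0c0d0e0f0001020304050607,
  nat_lit 0x4050607000102030c0d0e0f08090a0b,
  nat_lit 0xc0d0e0f08090a0b0405060700010203,
  nat_lit 0x8090c0d0a0b0e0f0706030205040100,
  nat_lit 0x9080a0b0c0d0f0e0706040502030100,
  nat_lit 0x2030d0c0a0b0504060709080e0f0100,
  nat_lit 0x8090a0b070605040c0d0e0f03020100,
  nat_lit 0x40506070c0d0e0f0b0a090803020100,
  nat_lit 0xd0a020503040c0b0601090e080f0700,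
  nat_lit 0x2040f09080e050301070c0a0b0d0600]

def gsU : List ℕ := [nat_lit 0x6f6e6d6c6b6a696867666564636261605f5e5d5c5b5a595857565554535251504f4e4d4c4b4a494847464544434241403f3e3d3c3b3a393837363534333231302f2e2d2c2b2a292827262524232221201f1e1d1c1b1a191817161514131211100f0e0d0c0b0a09080706050403020100,
  nat_lit 0x6c6d6e6f68696a6b67636465665f6061625e5d5c5a5b585954555657505152534f4b4c4d4e4748494a464544424340413f3e3c3d3a3b393836373435323330312e2f2c2d28292a2b27262425222321201e1f1c1d1a1b181916171415101112130e0f0c0d0a0b08090405060700010203,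
  nat_lit 0x5f606162636465665e68696a6b6c6d6e6f675c5d5a5b58594748494a4b4c4d4e4650515253545556574f4445424340413839363734353e3f3c3d3a3b2e2f2c2d3233303128292a2b20211e1f1c1d262724252223161714151a1b1819101112130f0e0d0c0b0a09080706050403020100,
  nat_lit 0x50515253545556574f4748494a4b4c4d4e4644454243404168696a6b6c6d6e6f675f606162636465665e5c5d5a5b58593e3f3c3d3a3b3839363734352e2f2c2d3233303128292a2b21201f1e1d1c2726252423221b1a191817161514131211100a0b08090e0f0c0d0405060703020100,
  nat_lit 0x69686b6a6d6c6f6e67605f6261646366655e5c5d5a5b595851505352555457564f48474a494c4b4e4d464445424341403e3f3c3d3b3a3839363735342e2f2d2c3233313029282b2a26272425232220211e1f1d1c161715141a1b1918111013120a0b09080e0f0d0c0504070602030001,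
  nat_lit 0x5f60616268696a6b5c636465666c6d6e6f5d5e675a5b5859575655544e4d4c4b45535251504a494847444f464342414027211b1a1918262017161514252423221f1e1d1c131211103f39333231303e382f2e2d2c3d3c3b3a373635342b2a29280e0f0c0d0b0a09080302010007060504,
  nat_lit 0x5f616062636564665e686a696b6c6e6d6f675c5d58595a5b57555654535152504f4e4c4d4b4a4849474645444140434227262322252421201d1c1f1e19181b1a15141716131112103f3e3b3a3d3c393835343736313033322d2c2f2e2b292a280d0c0f0e09080b0a0705060403010200,
  nat_lit 0x4b4c4d4e6b6a696821636465665352515026393e0e0f0c0d545556576261605f276c6d6e6f4a494847203f380b0a0908455c1a1b18195d4417161514323330312f2e2d2c030201004f5e2425222367461f1e1d1c3c3d3a3b37363534070605045a5b585943424140131211102b2a2928,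
  nat_lit 0x5f606162636465665e57565554535251504f27262524232268696a6b6c6d6e6f674e4d4c4b4a4948474621201f1e1d1c5c5d5a5b58594544434241401b1a191817161514131211103e3f3c3d3a3b3938373635340f0e0d0c0b0a090807060504333231302f2e2d2c2b2a292803020100,
  nat_lit 0x50515253545556574f68696a6b6c6d6e6f673e3f3c3d3a3b666564636261605f5e4e4d4c4b4a4948474639383736353426272425222321201f1e1d1c0f0e0d0c0b0a0908070605045d5c5b5a5958454443424140333231302f2e2d2c2b2a29281b1a1918171615141312111003020100,
  nat_lit 0x4b6b63534c6a64520e4d6965514e6866500f0c0d2126393e54626c4a55616d490b56606e48575f6f470a090827203f3803021a17322f01001b16332e1815302d1914312c455c5d440706241f3c370504251e3d36221d3a35231c3b344f5e674612112a2913102b28435a5b4241585940,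
  nat_lit 0x484c51556e6a6561116064696d56524d4912292a050601024a4e53576c68635f1362666b6f54504b47102b280704030041581d2315195940221c1814353b2d313a34302c090d0c08435a1f25171b5b42241e1a16373d2f333c36322e0b0f0e0a5e675c5d4f464544272621203f3e3938,
  nat_lit 0x28292a2b6f6e6d6c206261605f1312111038273f5b5a5958535251500706050444000102034b4c4d4e464f450e0f0c0d265d3d3c3b3a5e391a1b18192f2e2d2c1e1f1c1d68696a6b3e5c252423226721323330311716151436373435666564630b0a090842434041575655544a494847,
  nat_lit 0x6b6a696828292a2b211312111066656463393e265b5a59580706050457565554454748494a0302010046444f0a0b08095c273d3c3b3a385e161714151e1f1c1d333231306c6d6e6f5d3f2524232220672e2f2c2d363734351b1a19186261605f424340410f0e0d0c535251504b4c4d4e]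

variable {G : Type u} [Group G]

/-- letters `z u e t f w s y Y p P` (or `m M`) -/
abbrev gH (z u e t f w s y p : G) : ℕ → G := nt 1 [1, z, u, e, t, f, w, s, y, y⁻¹, p, p⁻¹]
/-- letters `z u e t f w s y Y m M p P` -/
abbrev gU (z u e t f w s y m p : G) : ℕ → G := nt 1 [1, z, u, e, t, f, w, s, y, y⁻¹, m, m⁻¹, p, p⁻¹]

theorem sq_of {γ : ℕ → G} {Rl : List (List ℕ × ℕ)} (h : Rels γ Rl) {k : ℕ} (hk : ([k], 1) ∈ Rl) : γ k = (γ k)⁻¹ := by
  have := h _ hk
  rw [ev_single] at this
  exact eq_inv_of_mul_eq_one_left ((pow_two _).symm.trans this)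

theorem chkH : chk 48 2039 11 19 gsH [Comp.U43h.L.map .c, [.c 2, .c 3, .c 5, .c 7], [.c 2, .c 3, .c 5, .c 7]]
    (.and (.card 0 1152) (.all 0 (ncl (wd [1])))) = true := by decide +kernel

theorem chkM : chk 16 8191 13 91 gsM [[1, 2, 3, 4, 5, 6, 7, 8, 9, 10, 11].map .c, [.c 1, .c 2, .c 3, .c 4, .c 10],
    [.c 10, wd [8, 11]]] (.and (.card 0 5760) (.all 0 (ncl (wd [1])))) = true := by decide +kernel

theorem embH {z u e t f w s y p : G} (h : Rels (gH z u e t f w s y p) Comp.U43h.R) (z1 : z ≠ 1) :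
    ∃ φ : c48.gen gsH →* G, Function.Injective φ ∧ ∀ i, R c48 φ (getL gsH (idN 48) i) (gH z u e t f w s y p i) := by
  refine emb_inj (c := c48) (gs := gsH) (by decide +kernel : ∀ g ∈ gsH, isPerm 48 g = true) Comp.U43h.ord (by decide +kernel) (fun k hk => by simp [Comp.U43h.L] at hk ⊢; omega)
    [1] chkH
    (ivok (l := [z, u, e, t, f, w, s, y, y⁻¹, p, p⁻¹]) (by decide +kernel : ∀ x < 64, Comp.U43h.iv x < 64 ∧ (11 < x → 11 < Comp.U43h.iv x)) fun k hk => ?_) h
    (fun k hk => ?_) ((ev_single _ 1).trans_ne z1)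
  · simp only [List.length_cons, List.length_nil] at hk
    have q := fun k => sq_of h (k := k)
    interval_cases k
    exacts [inv_one.symm, q 1 (by decide +kernel), q 2 (by decide +kernel), q 3 (by decide +kernel), q 4 (by decide +kernel),
      q 5 (by decide +kernel), q 6 (by decide +kernel), q 7 (by decide +kernel), rfl, (inv_inv _).symm, rfl, (inv_inv _).symm]
  · by_cases h0 : k = 0
    · rw [h0]; rfl
    · exact nt_ge _ _ _ (by simp [Comp.U43h.L] at hk ⊢; omega)

theorem embM {z u e t f w s y m : G} (h : Rels (gH z u e t f w s y m) Comp.U43g.T1_R) (z1 : z ≠ 1) :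
    ∃ φ : c16.gen gsM →* G, Function.Injective φ ∧ ∀ i, R c16 φ (getL gsM (idN 16) i) (gH z u e t f w s y m i) := by
  refine emb_inj (c := c16) (gs := gsM) (by decide +kernel : ∀ g ∈ gsM, isPerm 16 g = true) Comp.U43g.T1_ord (by decide +kernel) (fun k hk => by simp at hk ⊢; omega)
    [1] chkM
    (ivok (l := [z, u, e, t, f, w, s, y, y⁻¹, m, m⁻¹]) (by decide +kernel : ∀ x < 64, Comp.U43g.iv x < 64 ∧ (11 < x → 11 < Comp.U43g.iv x)) fun k hk => ?_) h
    (fun k hk => ?_) ((ev_single _ 1).trans_ne z1)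
  · simp only [List.length_cons, List.length_nil] at hk
    have q := fun k => sq_of h (k := k)
    interval_cases k
    exacts [inv_one.symm, q 1 (by decide +kernel), q 2 (by decide +kernel), q 3 (by decide +kernel), q 4 (by decide +kernel),
      q 5 (by decide +kernel), q 6 (by decide +kernel), q 7 (by decide +kernel), rfl, (inv_inv _).symm, rfl, (inv_inv _).symm]
  · by_cases h0 : k = 0
    · rw [h0]; rfl
    · exact nt_ge _ _ _ (by simp at hk ⊢; omega)

noncomputable abbrev U0 : Subgroup (Equiv.Perm (Fin 112)) := c112.gen gsU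

theorem gsUH : ∀ g ∈ gsU, c112.InH U0 g :=
  inH_gen fun g hg => valid_of_isPerm ((by decide +kernel : ∀ g ∈ gsU, isPerm 112 g = true) g hg)

theorem RU (i : ℕ) : R c112 (MonoidHom.id U0) (getL gsU (idN 112) i) (gl gsUH i) := ⟨inH_getL gsUH i, rfl⟩

theorem presU : IvOK (gl gsUH) Comp.U43g.iv ∧ Rels (gl gsUH) Comp.U43g.R := presB_sound gsUH (by decide +kernel)

theorem clU : cl (gl gsUH) Comp.U43g.L = ⊤ := by
  refine eq_top_iff.2 fun x _ => (mem_map_iff_mem U0.subtype_injective).1 ((closure_le _).2 ?_ x.2)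
  rintro _ ⟨g, hg, rfl⟩
  obtain ⟨i, hi, rfl⟩ := List.getElem_of_mem hg
  have : gl gsUH i ∈ cl (gl gsUH) Comp.U43g.L := by
    by_cases h : i = 0
    · rw [h, presU.1.1]; exact one_mem _
    · exact mem_cl (by simp [gsU, Comp.U43g.L] at hi ⊢; omega)
  refine ⟨_, this, congrArg c112.dec ?_⟩
  simp only [gsU, List.length_cons, List.length_nil] at hi
  interval_cases i <;> rfl

def xw : List Tm := 1 :: [[6, 13, 11, 8, 10, 12], [13, 11, 9, 5, 10, 12], [12, 10, 8, 2, 11, 13], [12, 10, 2, 9, 11, 13],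
  [1, 11, 8, 11, 12, 5, 10, 9, 10], [3, 8, 13, 10, 9, 12], [3, 11, 12, 10, 8, 10, 12, 3, 10], [3, 8, 10, 8, 12, 11, 8, 13, 11, 8, 10],
  [11, 9, 10, 9, 12, 10, 9, 13, 11, 9, 3], [4, 8, 11, 12, 3, 10, 9], [2, 8, 12, 10, 8, 11, 13, 7]].map wd

theorem eU : Nonempty (cl (gp Comp.U43x.nets) Comp.U43x.L ≃* U0) := by
  obtain ⟨p1, p2⟩ := rels_tm RU xw (iv := Comp.U43x.iv) (Rl := Comp.U43x.R) (by decide +kernel)
  obtain ⟨f, hf⟩ := hom_of_ord.{0, 0} Comp.U43x.ord Comp.U43x.nets_iv Comp.U43x.nets_rel p1 p2 Comp.U43x.card.ge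
  have hi : Function.Injective f := (MonoidHom.ker_eq_bot_iff f).1
    ((Comp.U43x.simple.eq_bot_or_eq_top_of_normal _ inferInstance).resolve_right fun h => by
      have := hf [1] (by decide)
      rw [show f _ = 1 from (show _ ∈ f.ker from h ▸ mem_top _), ev_single] at this
      exact absurd (((Tm.sound RU .nil _).eq_iff Function.injective_id R.one).2 this.symm) (by decide +kernel))
  have := (Comp.U43g.ord _ _ presU.1 presU.2).2
  rw [clU, card_top, ← Comp.U43x.card] at this
  exact ⟨MulEquiv.ofBijective f ((Nat.bijective_iff_injective_and_card f).2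
    ⟨hi, le_antisymm (Nat.card_le_card_of_injective f hi) this⟩)⟩

theorem card_U0 : Nat.card U0 = 3265920 := let ⟨e⟩ := eU; (Nat.card_congr e.toEquiv).symm.trans Comp.U43x.card

theorem simple_U0 : IsSimpleGroup U0 := let ⟨e⟩ := eU; have := Comp.U43x.simple; e.symm.isSimpleGroup

theorem isoU0 {F : Type u} [Field F] [Fintype F] (hF : Fintype.card F = 9) : Nonempty (U0 ≃* PSU 4 F 3) :=
  let ⟨e⟩ := eU; let ⟨f⟩ := Comp.U43x.iso hF; ⟨e.symm.trans f⟩

theorem embU {z u e t f w s y m p : G} (h : Rels (gU z u e t f w s y m p) Comp.U43g.R) (z1 : z ≠ 1) :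
    ∃ φ : U0 →* G, Function.Injective φ ∧ ∀ i, R c112 φ (getL gsU (idN 112) i) (gU z u e t f w s y m p i) := by
  have hi : IvOK (gU z u e t f w s y m p) Comp.U43g.iv := ivok
    (by decide +kernel : ∀ x < 64, Comp.U43g.iv x < 64 ∧ (13 < x → 13 < Comp.U43g.iv x)) fun k hk => by
    simp only [List.length_cons, List.length_nil] at hk
    have q := fun k => sq_of h (k := k)
    interval_cases k
    exacts [inv_one.symm, q 1 (by decide +kernel), q 2 (by decide +kernel), q 3 (by decide +kernel), q 4 (by decide +kernel),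
      q 5 (by decide +kernel), q 6 (by decide +kernel), q 7 (by decide +kernel), rfl, (inv_inv _).symm, rfl, (inv_inv _).symm,
      rfl, (inv_inv _).symm]
  obtain ⟨F, hf⟩ := hom_of_ord.{0, u} Comp.U43g.ord presU.1 presU.2 hi h (by rw [clU, card_top, card_U0])
  let φ : U0 →* G := F.comp ((MonoidHom.id _).codRestrict _ fun x => clU ▸ mem_top x)
  have hφ : ∀ i, φ (gl gsUH i) = gU z u e t f w s y m p i := fun i => by
    by_cases hi : i ∈ Comp.U43g.L
    · have := hf [i] (by simpa using hi)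
      simp only [ev_single] at this
      exact this
    · by_cases h0 : i = 0
      · rw [h0, presU.1.1, map_one]; rfl
      · rw [gl_one gsUH (by simp [gsU, Comp.U43g.L] at hi ⊢; omega), map_one]
        exact (nt_ge _ _ _ (by simp [Comp.U43g.L] at hi ⊢; omega)).symm
  have := simple_U0
  exact ⟨φ, (MonoidHom.ker_eq_bot_iff φ).1 ((φ.normal_ker.eq_bot_or_eq_top).resolve_right fun e =>
    z1 ((hφ 1).symm.trans (e.ge (mem_top _)))), fun i => ⟨inH_getL gsUH i, hφ i⟩⟩

end Cfsg.Lib.U43
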