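import Cfsg.Agent.Lib.U43.M
import Cfsg.Agent.Lib.U43.Gen

/-! Groups of type `U₄(3)` are isomorphic to `U₄(3)`. -/

set_option autoImplicit false
set_option maxRecDepth 100000
set_option linter.unusedSectionVars false

namespace Cfsg.Lib.U43

open Cfsg.Lib.FO Subgroup Cfsg.Lib.Amalg Cfsg.Lib.Golay Cfsg.Lib.Psp43
open Cfsg.Lib.Comp (IvOK Rels ev)
open Cfsg.Lib.Transfer (resOf resOf_le mem_resOf normalizer_le_normalizer_resOf)

universe v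

variable {G : Type v} [Group G] [Finite G] {z u e t f w s y p m : G}

set_option hygiene false in
local notation "𝐇" => gen [t, w, s, y, p]
set_option hygiene false in
local notation "𝐒" => gen [z, u, e, t, f, w, s]
set_option hygiene false in
local notation "𝐐" => gen [z, u, e, f, s]
set_option hygiene false in
local notation "𝐃" => gen [y, p]

def RM : List (List ℕ × ℕ) := [([10],2), ([7,10],1), ([10,1,11,2],0), ([10,2,11,1,2],0), ([10,3,11,4],0), ([10,4,11,3,4],0),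
  ([10,5,11,5,6],0), ([10,6,11,5],0), ([8,11],4), ([8,10],7), ([12,11],7), ([10,11],0)]

def σp (x : ℕ) : ℕ := if x < 10 then x else x + 2

theorem pow_inv' {a b : G} {n : ℕ} (h : (b * a⁻¹) ^ n = 1) : (a * (b⁻¹ * 1)) ^ n = 1 := by
  rw [← inv_eq_one, ← inv_pow]; simpa using h

theorem rl {a b c : G} (h : a * b * a⁻¹ = c) {d : G} (k : c * d = 1) : (a * (b * (a⁻¹ * d))) ^ (0 + 1) = 1 := by
  rw [← k, ← h]; simp [mul_assoc]

theorem cm_of_norm {K : Subgroup G} {n a k : G} (hn : n ∈ 𝐍 K) (h : ∀ x ∈ K, x * a = a * x) (hk : k ∈ K) :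
    n * a * n⁻¹ * k = k * (n * a * n⁻¹) := by
  have := cm_cj n (h _ ((mem_normalizer_iff.1 (inv_mem hn) k).1 hk))
  simpa [mul_assoc] using this.symm

namespace UT
variable (h : UT z u e t f w s y p)
include h

theorem cA (g : G) (h1 : g * z = z * g) (h2 : g * u = u * g) (h3 : g * e = e * g) (h4 : g * t = t * g) : g ∈ gen [z, u, e, t] :=
  (((h.fh.hH g (h.hC g h1)).2.1 h2).2.1 h3).1 h4

theorem cB (g : G) (h1 : g * z = z * g) (h2 : g * u = u * g) (h3 : g * f = f * g) (h4 : g * w = w * g) : g ∈ gen [z, u, f, w] :=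
  ((h.fh.hH g (h.hC g h1)).2.1 h2).2.2 h3 h4

theorem nS {n : G} (hn : n ∈ 𝐍 𝐒) : n * z * n⁻¹ = z := by
  have F := h.fh
  have k : ∀ x ∈ [z, u, e, t, f, w, s], n * z * n⁻¹ * x = x * (n * z * n⁻¹) := fun x hx =>
    cm_of_norm hn (fun x hx => (F.hH x (F.hS x hx)).1) (mem_gen hx)
  exact ((((F.hH _ (h.hC _ (k z (by simp)))).2.1 (k u (by simp))).2.1 (k e (by simp))).2 (k f (by simp))
    (k s (by simp))).resolve_left fun e => F.z1 (conj_eq_one_iff.1 e)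

theorem sylS : Syl 2 𝐒 ⊤ := by
  have h2 := relIndex_mul (show 𝐒 ≤ 𝐇 from h.fh.hS)
  rw [h.fh.cS, h.fh.cH] at h2
  exact (syl_of_not_dvd h.fh.hS (IsPGroup.of_card (n := 7) h.fh.cS) (by omega)).of_normalizer_le le_top
    fun n hn => h.hC n (cm_of_cj (h.nS hn.2))

variable (k : Mr z u e t f w s m)
include k

theorem core : oddCore G = ⊥ := by
  have F := h.fh
  refine core_bot F.z2 k.mz k.mu fun g hg e1 => ?_
  have hO := Core.odd_card_oddCore G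
  have c : ∀ q ∈ [z, u, e, f, s], g * q = q * g := fun q hq => by
    have h1 : g * q * g⁻¹ * q⁻¹ ∈ 𝐐 := mul_mem (F.nQ (h.hC g e1) (mem_gen hq)) (inv_mem (mem_gen hq))
    have h2 : g * q * g⁻¹ * q⁻¹ ∈ oddCore G := by
      rw [mul_assoc, mul_assoc, ← mul_assoc q]; exact mul_mem hg (Normal.conj_mem inferInstance _ (inv_mem hg) q)
    have h3 := eq_one_of_odd hO h2 (k := 7) (by
      simpa [F.cS] using orderOf_dvd_iff_pow_eq_one.1 (orderOf_dvd_natCard _ (F.hQ _ h1).2.2.2.2.2))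
    rwa [mul_inv_eq_one, mul_inv_eq_iff_eq_mul] at h3
  rcases (((F.hH g (h.hC g e1)).2.1 (c u (by simp))).2.1 (c e (by simp))).2 (c f (by simp)) (c s (by simp)) with e2 | e2
  · exact e2
  · exact eq_one_of_odd hO hg (k := 1) (by rw [e2, pow_one, pow_two, F.z2])

theorem fuse {K : Subgroup G} (hH : 𝐇 ≤ K) (hm : m ∈ K) (i : G) (hi : i ∈ K) (i2 : orderOf i = 2) :
    ∃ a ∈ K, a * z * a⁻¹ = i := by
  have F := h.fh
  have tr : ∀ {a b c}, c ∈ K → (∃ g ∈ K, g * z * g⁻¹ = a) → c * a * c⁻¹ = b → ∃ g ∈ K, g * z * g⁻¹ = b :=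
    fun hc ⟨_, hg, e1⟩ e2 => ⟨_, mul_mem hc hg, cjc2 e1 e2⟩
  have g : ∀ {x}, x ∈ [t, w, s, y, p] → x ∈ K := fun hx => hH (mem_gen hx)
  have hD : ∀ d ∈ 𝐃, d ∈ K := fun d hd => hH (F.hD d hd).2.2.2.1
  have cz : ∃ g ∈ K, g * z * g⁻¹ = z := ⟨1, one_mem _, by simp⟩
  have cu := tr hm cz k.mz
  have ct := tr hm (tr (inv_mem (g (x := y) (by simp))) cu (cji (h.eq (.cj (.c 8) (.c 3)) (.c 2) (by decide +kernel)))) k.me
  have cw := tr (inv_mem hm) (tr (g (x := p) (by simp)) cu (h.eq (.cj (.c 10) (.c 2)) (.c 5) (by decide +kernel))) (cji k.mw)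
  obtain ⟨c, hc, hcS⟩ := (h.sylS.of_le (fun x hx => hH (F.hS x hx)) le_top).exists_conj_le (P := zpowers i)
    (IsPGroup.of_card (n := 1) (by rw [Nat.card_zpowers, i2, pow_one])) (zpowers_le.2 hi)
  have h1 : c * i * c⁻¹ ∈ 𝐇 := F.hS _ (hcS (conj_mem_cj c (mem_zpowers i)))
  have sq : ∀ a : G, a * i * a⁻¹ * (a * i * a⁻¹) = 1 := fun a => by rw [conj_mul, ← pow_two, ← i2, pow_orderOf_eq_one]; simp
  have n1 : ∀ a : G, a * i * a⁻¹ ≠ 1 := fun a e => by rw [conj_eq_one_iff.1 e, orderOf_one] at i2; omega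
  refine tr (inv_mem hc) ?_ (cji rfl)
  rcases ((F.hH _ h1).2.2.2.2 (sq c)).2 with e1 | e1 | ⟨-, d, hd, e1 | e1⟩ | ⟨b, hb, e1⟩
  · exact (n1 c e1).elim
  · exact e1 ▸ cz
  · exact tr (hD d hd) cu e1.symm
  · exact tr (hD d hd) (tr (g (by simp)) cu F.sus) e1.symm
  have e2 : b⁻¹ * (c * i * c⁻¹) * b = b⁻¹ * c * i * (b⁻¹ * c)⁻¹ := by group
  have h2 := F.hH _ (mul_mem (mul_mem (inv_mem (F.QH hb)) h1) (F.QH hb))
  refine tr (hH (F.QH hb)) ?_ (show b * (b⁻¹ * (c * i * c⁻¹) * b) * b⁻¹ = _ by group)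
  rcases e1 with e1 | e1
  · rcases (h2.2.2.1 e1).2.2 (e2 ▸ sq _) with e3 | e3 | ⟨d, hd, e3 | e3⟩
    exacts [(n1 _ (e2 ▸ e3)).elim, e3 ▸ cz, tr (hD d hd) ct e3.symm, tr (hD d hd) (tr (g (by simp)) ct F.wt) e3.symm]
  · rcases (h2.2.2.2.2 (e2 ▸ sq _)).1 e1 with e3 | e3 | ⟨d, hd, e3 | e3⟩
    exacts [(n1 _ (e2 ▸ e3)).elim, e3 ▸ cz, tr (hD d hd) cw e3.symm, tr (hD d hd) (tr (g (by simp)) cw F.tw) e3.symm]

theorem top {K : Subgroup G} (hH : 𝐇 ≤ K) (hm : m ∈ K) : K = ⊤ :=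
  top_of (h.core k) h.sylS (mem_gen (by simp)) (ord2 h.fh.z2 h.z1) (fun _ => h.nS) (fun g hg => hH (h.hC g hg)) (h.fuse k hH hm)

theorem relsM : Rels (gU z u e t f w s y m p) RM := by
  have F := h.fh
  have mA := actA F k.mz k.mu k.me k.mt
  have yA : Act (io z u e t) y (lin 1 6 2 8) := h.act (.c 8) (.c 3) (.c 4) 6 2 8 (by norm_num) F.eaA (by decide +kernel)
  have YA : Act (io z u e t) y⁻¹ (lin 1 4 6 8) := h.act (.c 9) (.c 3) (.c 4) 4 6 8 (by norm_num) F.eaA (by decide +kernel)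
  have PB : Act (io z u f w) p⁻¹ (lin 1 7 2 8) := h.act (.c 11) (.c 5) (.c 6) 7 2 8 (by norm_num) F.eaB (by decide +kernel)
  have q : ∀ {a b : G}, a * a = 1 → b * b = 1 → a * b * (b * (a * 1)) = 1 := fun ha hb => by
    rw [mul_assoc, ← mul_assoc _ _ (_ * 1), hb, one_mul, mul_one, ha]
  have q1 : ∀ {a : G}, a * a = 1 → a * (a * 1) = 1 := fun ha => by rwa [mul_one]
  refine .cons (show (m * 1) ^ 3 = 1 by rw [mul_one, k.m3]) (.cons (show (s * (m * 1)) ^ 2 = 1 by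
    rw [mul_one, pow_two, ← mul_assoc, k.sm]) (.cons (rl k.mz (q1 F.u2))
    (.cons (rl k.mu (q F.u2 F.z2)) (.cons (rl k.me (q1 F.t2)) (.cons (rl k.mt (q F.t2 F.e2))
    (.cons (rl k.mf (q F.w2 F.f2)) (.cons (rl k.mw (q1 F.f2))
    (.cons (pow_inv' (F.eaA.pow5 h.cA (Act.comp mA YA) (by decide +kernel) (by decide +kernel)))
    (.cons (show (y * (m * 1)) ^ 8 = 1 from (mul_one m).symm ▸ F.eaA.pow8 h.cA (Act.comp yA mA) (by decide +kernel))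
    (.cons (pow_inv' (F.eaB.pow8 h.cB (Act.comp (actB F k.mz k.mu k.mf k.mw) PB) (by decide +kernel)))
    (.cons (show (m * (m⁻¹ * 1)) ^ 1 = 1 by simp) fun _ h => nomatch h)))))))))))

theorem rels0 : Rels (gU z u e t f w s y m p) (RM ++ Comp.U43h.R.map fun r => (r.1.map σp, r.2)) :=
  (h.relsM k).append (rels_congr σp h.rel fun r hr x hx => by
    have := (by decide +kernel : ∀ r ∈ Comp.U43h.R, ∀ x ∈ r.1, x ≤ 11) r hr x hx
    interval_cases x <;> rfl)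

theorem rho : m * y⁻¹ * m * s * y = y * (m * y⁻¹ * m * s) ∧ m * y⁻¹ * m * s * z * (m * y⁻¹ * m * s)⁻¹ = t ∧
    m * w * s * y * (m * w * s)⁻¹ = m * y⁻¹ * m * s := by
  obtain ⟨φ, -, hφ⟩ := embM (z := z) (u := u) (e := e) (t := t) (f := f) (w := w) (s := s) (y := y) (m := m)
    ((rels_congr id ((h.rels0 k).mono (R' := Comp.U43g.T1_R) (by decide +kernel)) fun r hr x hx => by
      have := (by decide +kernel : ∀ r ∈ Comp.U43g.T1_R, ∀ x ∈ r.1, x ≤ 11) r hr x hx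
      interval_cases x <;> rfl).mono (by decide +kernel)) h.z1
  let ρ : Tm := .mul (.mul (.mul (.c 10) (.c 9)) (.c 10)) (.c 7)
  exact ⟨eq_tm hφ (.mul ρ (.c 8)) (.mul (.c 8) ρ) (by decide +kernel), eq_tm hφ (.cj ρ (.c 1)) (.c 4) (by decide +kernel),
    eq_tm hφ (.cj (.mul (.mul (.c 10) (.c 6)) (.c 7)) (.c 8)) ρ (by decide +kernel)⟩

omit k in
theorem long {ρ c : G} (h1 : ρ * y = y * ρ) (h2 : ρ * z * ρ⁻¹ = t) (h3 : c * y * c⁻¹ = ρ) :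
    p * (ρ * p * ρ⁻¹) = ρ * p * ρ⁻¹ * p := by
  have F := h.fh
  have mC : ∀ {g}, g ∈ 𝐂 𝐃 ↔ g * y = y * g ∧ g * p = p * g := ⟨fun hg => ⟨(hg y (mem_gen (by simp))).symm,
    (hg p (mem_gen (by simp))).symm⟩, fun hg x hx => cgen (by simpa using ⟨hg.1.symm, hg.2.symm⟩) hx⟩
  have hy : y ∈ 𝐃 := mem_gen (by simp)
  have hp : p ∈ 𝐃 := mem_gen (by simp)
  have cz : ∀ {g}, g * z = z * g → g * y = y * g → g * p = p * g → g ∈ 𝐃 ∨ g * z ∈ 𝐃 := fun a b =>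
    ((F.hH _ (h.hC _ a)).2.2.1 b).2.1
  have D1 : ∀ d ∈ 𝐃, ∀ n, d ^ 2 ^ n = 1 → d = 1 := fun d hd n => eq_one_of_odd (by rw [F.cD]; decide) hd
  have zC : zpowers z ≤ 𝐂 𝐃 := zpowers_le.2 (mC.2 ⟨(F.hH y (mem_gen (by simp))).1.symm, (F.hH p (mem_gen (by simp))).1.symm⟩)
  have nz : ∀ g ∈ 𝐍 (zpowers z), g * z = z * g := fun g hg => cm_of_cj
    (((mem_zp F.z2).1 ((mem_normalizer_iff.1 hg z).1 (mem_zpowers z))).resolve_left fun e => F.z1 (conj_eq_one_iff.1 e))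
  have sz : Syl 2 (zpowers z) (𝐂 𝐃) := syl_of_syl_normalizer ⟨le_inf zC le_normalizer,
    IsPGroup.of_card (n := 1) (by rw [Nat.card_zpowers, ord2 F.z2 F.z1, pow_one]), fun U a b c => le_antisymm (fun g hg => by
      rcases cz (nz g (b hg).2) (mC.1 (b hg).1).1 (mC.1 (b hg).1).2 with e | e
      · obtain ⟨n, hn⟩ := isPGroup_iff_mem.1 c g hg
        exact D1 g e n hn ▸ one_mem _
      · obtain ⟨n, hn⟩ := isPGroup_iff_mem.1 c _ (mul_mem hg (a (mem_zpowers z)))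
        exact eq_inv_of_mul_eq_one_left (D1 _ e n hn) ▸ inv_mem (mem_zpowers z)) a⟩
  have hO := Nat.coprime_two_right.1 (burn sz inferInstance fun g hg => mem_centralizer_comm.2 fun x hx => by
    rcases (mem_zp F.z2).1 hx with rfl | rfl
    exacts [by simp, (nz g hg.2).symm])
  have nO : ∀ g ∈ 𝐍 𝐃, g ∈ 𝐍 (resOf 2 (𝐂 𝐃)) := fun g hg =>
    normalizer_le_normalizer_resOf _ (Core.le_normalizer_centralizer le_rfl hg)
  have tD : t ∈ 𝐍 𝐃 := norm_gen (by simpa [F.ty, F.tp] using ⟨hy, hp⟩)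
  have wD : w ∈ 𝐍 𝐃 := norm_gen (by simpa [F.wy, F.wp] using ⟨hy, hp⟩)
  by_contra hne
  have Ot : ∀ x ∈ resOf 2 (𝐂 𝐃), x * t = t * x → x ∈ 𝐃 := fun x hx e1 => by
    obtain ⟨x1, x2⟩ := mC.1 (resOf_le _ hx)
    have r1 : ρ * y * ρ⁻¹ = y := cj_of_cm h1
    have e2 := cm_cj ρ⁻¹ e1
    have e3 := cm_cj ρ⁻¹ x1
    rw [cji h2] at e2
    rw [cji r1] at e3
    have e4 : ρ⁻¹ * x * ρ⁻¹⁻¹ ∈ 𝐃 := mem_of_pow_mem_coprime (n := 2) (by
      rw [Invol.orderOf_conj]; exact Nat.coprime_two_right.2 (Odd.of_dvd_nat hO (orderOf_dvd_natCard _ hx)))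
      (pow_two (ρ⁻¹ * x * ρ⁻¹⁻¹) ▸ ((F.hH _ (h.hC _ e2)).2.2.1 e3).1)
    have ra : ∀ a ∈ gen [y], ρ * a * ρ⁻¹ = a ∧ Commute p a := fun a ha =>
      ⟨cj_of_cm (cgen (by simpa using h1.symm) ha).symm, (cgen (by simpa using F.yp) ha).symm⟩
    have e5 : ρ * (ρ⁻¹ * x * ρ⁻¹⁻¹) * ρ⁻¹ = x := by group
    rcases (F.hD _ e4).2.2.2.2 with e6 | ⟨a, ha, e6 | e6⟩
    · rw [← e5, (ra _ e6).1]; exact e4
    · refine (hne ?_).elim
      rw [show ρ * p * ρ⁻¹ = a * x by nth_rw 1 [e6]; rw [cjm, (ra a ha).1, e5]]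
      exact (ra a ha).2.mul_right x2.symm
    · refine (hne ?_).elim
      rw [show ρ * p * ρ⁻¹ = a * x⁻¹ by nth_rw 1 [e6]; rw [cjm, (ra a ha).1]; group]
      exact (ra a ha).2.mul_right (Commute.inv_right x2.symm)
  have OD : resOf 2 (𝐂 𝐃) ≤ 𝐃 := four_le (ord2 F.t2 fun e => F.z1 (conj_eq_one_iff.1 (h2.trans e))) (ord2 F.z2 F.z1) F.tz
    F.zt.symm hO (nO t tD) (nO z (centralizer_le_normalizer _ (zC (mem_zpowers z)))) Ot (fun g hg e => by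
      refine (cz e (mC.1 (resOf_le _ hg)).1 (mC.1 (resOf_le _ hg)).2).resolve_right fun e1 => F.z1 (eq_one_of_odd hO ?_ (k := 1)
        (by rw [pow_one, pow_two, F.z2]))
      simpa using mul_mem (inv_mem hg) (mem_resOf (p := 2) (mC.2 ⟨(F.hD _ e1).2.1, (F.hD _ e1).2.2.1⟩)
        (cop (m := 3) (by rw [pow_three', (F.hD _ e1).1]) (by decide)))) fun g hg e => by
      have e1 := cm_cj w⁻¹ e
      rw [cji F.wt] at e1
      exact (mem_normalizer_iff.1 (inv_mem wD) g).2 (Ot _ ((mem_normalizer_iff.1 (inv_mem (nO w wD)) g).1 hg) e1)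
  have DH : 𝐃 ≤ 𝐇 := fun d hd => (F.hD d hd).2.2.2.1
  have ND : ∀ g ∈ 𝐍 𝐃, g ∈ 𝐇 := fun g hg => by
    have e1 : g * z * g⁻¹ ∈ 𝐂 𝐃 := (mem_normalizer_iff.1 (Core.le_normalizer_centralizer le_rfl hg) z).1 (zC (mem_zpowers z))
    have e2 : g * z * g⁻¹ * z = z * (g * z * g⁻¹) := (F.hH _ (((sylIn sz).resOf_sup.ge.trans (sup_le (OD.trans DH)
      (zpowers_le.2 (F.QH (mem_gen (by simp)))))) e1)).1
    have e3 : g * z * g⁻¹ * (g * z * g⁻¹) = 1 := by rw [conj_mul, F.z2]; simp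
    refine h.hC g (cm_of_cj ?_)
    rcases cz e2 (mC.1 e1).1 (mC.1 e1).2 with e | e
    · exact (F.z1 (conj_eq_one_iff.1 (D1 _ e 1 (by rw [pow_one, pow_two, e3])))).elim
    · rw [eq_inv_of_mul_eq_one_left (D1 _ e 1 (by rw [pow_one, Commute.mul_pow e2, pow_two, pow_two, e3, F.z2, one_mul])),
        inv_eq_of_mul_eq_one_left F.z2]
  have h4 := relIndex_mul DH
  rw [F.cD, F.cH] at h4
  have sD : Syl 3 𝐃 ⊤ := (syl_of_not_dvd DH (IsPGroup.of_card (n := 2) F.cD) (by omega)).of_normalizer_le le_top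
    fun g hg => ND g hg.2
  obtain ⟨a, ha, e1⟩ := (sD.of_le (K := centralizer {y}) (fun d hd => mem_centralizer_singleton_iff.2 (F.hD d hd).2.1)
    le_top).exists_conj_le (P := zpowers ρ) (IsPGroup.of_card (n := 1) (by
      rw [Nat.card_zpowers, ← h3, Invol.orderOf_conj, pow_one]; exact orderOf_eq_prime (by rw [pow_three', F.y3]) F.y1))
    (zpowers_le.2 (mem_centralizer_singleton_iff.2 h1))
  have e2 : a * ρ * a⁻¹ ∈ 𝐃 := e1 (conj_mem_cj a (mem_zpowers ρ))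
  have e3 := cjc2 h3 (rfl : a * ρ * a⁻¹ = _)
  obtain ⟨n, hn, e4⟩ := (sylIn sD).exists_normalizer_conj_eq (mem_top (a * c)) (mC.2 ⟨rfl, F.yp⟩)
    (e3 ▸ mC.2 ⟨(F.hD _ e2).2.1, (F.hD _ e2).2.2.1⟩)
  have ay : a⁻¹ * y * a⁻¹⁻¹ = y := cj_of_cm (mem_centralizer_singleton_iff.1 (inv_mem ha))
  have yz : Commute y z := (F.hH y (mem_gen (by simp))).1
  refine F.tz (h2.symm.trans (cj_of_cm ?_))
  rw [e3] at e4
  rcases (F.hH n (ND n hn.2)).2.2.2.1 (e4 ▸ e2) with e | e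
  · rw [← cji (e4.symm.trans e), ay]; exact yz
  · rw [← cji (e4.symm.trans e), ← conj_inv, ay]; exact yz.inv_left

theorem rels : Rels (gU z u e t f w s y m p) Comp.U43g.R := by
  obtain ⟨h1, h2, h3⟩ := h.rho k
  have := h.long h1 h2 h3
  refine (Rels.cons (u := [13,10,9,10,7,13,7,11,8,11,12,10,9,10,7,12,7,11,8,11]) (e := 0) ?_ (h.rels0 k)).mono (by decide +kernel)
  show (p⁻¹ * (m * (y⁻¹ * (m * (s * (p⁻¹ * (s * (m⁻¹ * (y * (m⁻¹ * (p * (m * (y⁻¹ * (m * (s * (p * (s * (m⁻¹ * (y * (m⁻¹ *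
    1)))))))))))))))))))) ^ 1 = 1
  nth_rw 2 4 [eq_inv_of_mul_eq_one_left h.fh.s2]
  calc _ = (m * y⁻¹ * m * s * p * (m * y⁻¹ * m * s)⁻¹ * p)⁻¹ * (p * (m * y⁻¹ * m * s * p * (m * y⁻¹ * m * s)⁻¹)) := by group
    _ = 1 := by rw [this, inv_mul_cancel]

theorem emb : ∃ φ : U0 →* G, Function.Bijective φ ∧ ∀ i, R c112 φ (getL gsU (idN 112) i) (gU z u e t f w s y m p i) := by
  obtain ⟨φ, h1, h2⟩ := embU (h.rels k) h.z1
  have g : ∀ i, gU z u e t f w s y m p i ∈ φ.range := fun i => ⟨_, (h2 i).2⟩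
  exact ⟨φ, ⟨h1, MonoidHom.range_eq_top.1 (h.top k (gen_le.2 (by
    simp only [List.forall_mem_cons]; exact ⟨g 4, g 6, g 7, g 8, g 12, fun _ h => nomatch h⟩)) (g 10))⟩, h2⟩

omit k

theorem iso : Nonempty (U0 ≃* G) := let ⟨_, k⟩ := h.exM; let ⟨φ, h1, _⟩ := h.emb k; ⟨MulEquiv.ofBijective φ h1⟩

theorem conj2 (x : G) (hx : orderOf x = 2) : IsConj z x :=
  let ⟨_, k⟩ := h.exM; let ⟨a, _, e⟩ := h.fuse k le_top (mem_top _) x (mem_top x) hx; isConj_iff.2 ⟨a, e⟩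

end UT

end Cfsg.Lib.U43
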